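import Mathlib
import Cfsg.Prelude.Def_Solvable

/-!
Groups in which the intersection of two distinct Sylow 2-subgroups lies in the centre of a Sylow
2-subgroup: it then lies in the centre of both, fusion is controlled by the Sylow normalisers, and the
hypothesis passes to overgroups of Sylow subgroups and to all quotients.
-/

set_option autoImplicit false
set_option linter.unusedSectionVars false

namespace CfsgLib.CentralSylow

open Subgroup Pointwise

universe u v

/-- Central intersections of Sylow 2-subgroups. -/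
def CI (G : Type u) [Group G] : Prop :=
  ∀ S T : Sylow 2 G, S ≠ T → ∃ U : Sylow 2 G,
    (S : Subgroup G) ⊓ (T : Subgroup G) ≤ (Subgroup.center ↥(U : Subgroup G)).map (U : Subgroup G).subtype

/-- Non-abelian Sylow 2-subgroups. -/
def NonAb (G : Type u) [Group G] : Prop :=
  ∀ S : Sylow 2 G, ∃ a ∈ (S : Subgroup G), ∃ b ∈ (S : Subgroup G), a * b ≠ b * a

variable {G : Type u} [Group G]

theorem mem_smul_iff {g x : G} {S : Sylow 2 G} :
    x ∈ ((g • S : Sylow 2 G) : Subgroup G) ↔ g⁻¹ * x * g ∈ (S : Subgroup G) := by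
  rw [Sylow.coe_subgroup_smul, Subgroup.mem_pointwise_smul_iff_inv_smul_mem, MulAut.smul_def]
  simp [mul_assoc]

theorem conj_mem_smul {g x : G} {S : Sylow 2 G} (hx : x ∈ (S : Subgroup G)) :
    g * x * g⁻¹ ∈ ((g • S : Sylow 2 G) : Subgroup G) := by
  rw [mem_smul_iff]
  simpa [mul_assoc] using hx

variable [Finite G]

/-- Sylow subgroups inside a subgroup are conjugate in it. -/
theorem exists_smul_eq_in {K : Subgroup G} {S T : Sylow 2 G} (hS : (S : Subgroup G) ≤ K)
    (hT : (T : Subgroup G) ≤ K) : ∃ k ∈ K, k • S = T := by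
  have : Fact (Nat.Prime 2) := ⟨Nat.prime_two⟩
  obtain ⟨k, hk⟩ := MulAction.exists_smul_eq K (S.subtype hS) (T.subtype hT)
  rw [Sylow.smul_subtype] at hk
  exact ⟨k, k.2, Sylow.subtype_injective hk⟩

/-- A 2-subgroup of a subgroup containing a Sylow subgroup lies in a Sylow subgroup inside it. -/
theorem exists_sylow_le_of {K : Subgroup G} {U : Sylow 2 G} (hU : (U : Subgroup G) ≤ K)
    {P : Subgroup G} (hP : IsPGroup 2 P) (hPK : P ≤ K) :
    ∃ R : Sylow 2 G, (R : Subgroup G) ≤ K ∧ P ≤ (R : Subgroup G) := by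
  have : Fact (Nat.Prime 2) := ⟨Nat.prime_two⟩
  obtain ⟨R0, hR0⟩ := (hP.comap_of_injective K.subtype K.subtype_injective).exists_le_sylow
  obtain ⟨k, hk⟩ := MulAction.exists_smul_eq K (U.subtype hU) R0
  rw [Sylow.smul_subtype] at hk
  refine ⟨(k : G) • U, Sylow.smul_le hU k, fun x hx => ?_⟩
  have h1 : (⟨x, hPK hx⟩ : K) ∈ (R0 : Subgroup K) := hR0 hx
  rw [← hk] at h1
  exact h1

/-- Commutation with a Sylow subgroup. -/
def CentralIn (S : Sylow 2 G) (x : G) : Prop := ∀ s ∈ (S : Subgroup G), s * x = x * s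

theorem exists_noncentral (hna : NonAb G) (S : Sylow 2 G) :
    ∃ s ∈ (S : Subgroup G), ¬ CentralIn S s := by
  obtain ⟨a, ha, b, hb, hab⟩ := hna S
  exact ⟨b, hb, fun h => hab (h a ha)⟩

variable (hCI : CI G)
include hCI

/-- An intersection of distinct Sylow subgroups is central in both. -/
theorem central {S T : Sylow 2 G} (hST : S ≠ T) {x : G} (hxS : x ∈ (S : Subgroup G))
    (hxT : x ∈ (T : Subgroup G)) : CentralIn S x := by
  have : Fact (Nat.Prime 2) := ⟨Nat.prime_two⟩
  obtain ⟨U, hU⟩ := hCI S T hST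
  have hUc : (U : Subgroup G) ≤ centralizer ({x} : Set G) := by
    obtain ⟨w, hw, hwx⟩ := hU ⟨hxS, hxT⟩
    intro y hy
    rw [mem_centralizer_singleton_iff, ← hwx]
    exact congrArg Subtype.val (mem_center_iff.1 hw ⟨y, hy⟩)
  by_contra hcon
  obtain ⟨s0, hs0, hs0x⟩ : ∃ s ∈ (S : Subgroup G), s * x ≠ x * s := by
    by_contra h
    push Not at h
    exact hcon h
  set P : Subgroup G := (S : Subgroup G) ⊓ centralizer ({x} : Set G) with hP
  have hP2 : IsPGroup 2 P := S.2.to_le inf_le_left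
  obtain ⟨U1, hU1c, hU1⟩ := exists_sylow_le_of hUc hP2 inf_le_right
  have hne : S ≠ U1 := fun e => hs0x (mem_centralizer_singleton_iff.1 (hU1c (e ▸ hs0)))
  obtain ⟨U2, hU2⟩ := hCI S U1 hne
  have hU2P : ∀ y ∈ (U2 : Subgroup G), ∀ p ∈ P, y * p = p * y := by
    intro y hy p hp
    obtain ⟨w, hw, hwp⟩ := hU2 ⟨hp.1, hU1 hp⟩
    rw [← hwp]
    exact congrArg Subtype.val (mem_center_iff.1 hw ⟨y, hy⟩)
  have hU2N : (U2 : Subgroup G) ≤ normalizer (P : Set G) := fun y hy =>
    mem_normalizer_iff.2 fun p => ⟨fun hp => by rwa [hU2P y hy p hp, mul_inv_cancel_right], fun hp => by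
      have h2 : y * p * y⁻¹ = p := by
        refine mul_left_cancel (a := y) ?_
        rw [hU2P y hy _ hp]
        group
      rwa [h2] at hp⟩
  -- `S` normalises `P`: otherwise its normaliser in `S` is abelian
  have hSN : (S : Subgroup G) ≤ normalizer (P : Set G) := by
    by_contra hnot
    obtain ⟨R, hRN, hR⟩ := exists_sylow_le_of hU2N (S.2.to_le (inf_le_left :
      (S : Subgroup G) ⊓ normalizer (P : Set G) ≤ S)) inf_le_right
    have hne' : S ≠ R := fun e => hnot (e ▸ hRN)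
    obtain ⟨U3, hU3⟩ := hCI S R hne'
    -- the normaliser of `P` in `S` is then abelian, hence contained in `P`
    have hle : (S : Subgroup G) ⊓ normalizer (P : Set G) ≤ P := by
      intro y hy
      refine ⟨hy.1, mem_centralizer_singleton_iff.2 ?_⟩
      obtain ⟨w, hw, hwy⟩ := hU3 ⟨hy.1, hR hy⟩
      have hxP : x ∈ (S : Subgroup G) ⊓ normalizer (P : Set G) :=
        ⟨hxS, Subgroup.le_normalizer (show x ∈ P from ⟨hxS, mem_centralizer_singleton_iff.2 rfl⟩)⟩
      obtain ⟨w', hw', hwx⟩ := hU3 ⟨hxP.1, hR hxP⟩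
      rw [← hwy, ← hwx]
      exact congrArg Subtype.val (mem_center_iff.1 hw' w)
    haveI : Group.IsNilpotent ↥(S : Subgroup G) := S.2.isNilpotent
    have hlt : P.subgroupOf (S : Subgroup G) < ⊤ := lt_top_iff_ne_top.2 fun e =>
      hs0x (mem_centralizer_singleton_iff.1 (Subgroup.subgroupOf_eq_top.1 e hs0).2)
    obtain ⟨y, hy, hyP⟩ := SetLike.exists_of_lt
      (Group.normalizerCondition_of_isNilpotent (P.subgroupOf (S : Subgroup G)) hlt)
    refine hyP (hle ⟨y.2, mem_normalizer_iff.2 fun p => ?_⟩)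
    have hy' := mem_normalizer_iff.1 hy
    constructor
    · intro hp
      exact (hy' ⟨p, hp.1⟩).1 hp
    · intro hp
      have hpS : p ∈ (S : Subgroup G) := by
        have := mul_mem (mul_mem ((S : Subgroup G).inv_mem y.2) hp.1) y.2
        simpa [mul_assoc] using this
      exact (hy' ⟨p, hpS⟩).2 hp
  obtain ⟨n, hn, hnS⟩ := exists_smul_eq_in hU2N hSN
  have hs0' : s0 ∈ ((n • U2 : Sylow 2 G) : Subgroup G) := hnS ▸ hs0
  rw [mem_smul_iff] at hs0'
  have hxP : x ∈ P := ⟨hxS, mem_centralizer_singleton_iff.2 rfl⟩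
  have hnx : n⁻¹ * x * n ∈ P := (mem_normalizer_iff''.1 hn x).1 hxP
  have h1 := hU2P _ hs0' _ hnx
  refine hs0x ?_
  have h2 : n⁻¹ * (s0 * x) * n = n⁻¹ * (x * s0) * n := by
    calc n⁻¹ * (s0 * x) * n = n⁻¹ * s0 * n * (n⁻¹ * x * n) := by group
      _ = n⁻¹ * x * n * (n⁻¹ * s0 * n) := h1
      _ = n⁻¹ * (x * s0) * n := by group
  exact mul_left_cancel (mul_right_cancel h2)

/-- A non-central element of `S` lies in no other Sylow subgroup. -/
theorem eq_of_noncentral {S T : Sylow 2 G} {x : G} (hxS : x ∈ (S : Subgroup G))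
    (hx : ¬ CentralIn S x) (hxT : x ∈ (T : Subgroup G)) : T = S :=
  by_contra fun h => hx (central hCI (fun e => h e.symm) hxS hxT)

theorem conj_noncentral {S : Sylow 2 G} {x g : G} (hxS : x ∈ (S : Subgroup G)) (hx : ¬ CentralIn S x)
    (hg : g * x * g⁻¹ ∈ (S : Subgroup G)) : g ∈ normalizer ((S : Subgroup G) : Set G) := by
  have h1 : x ∈ ((g⁻¹ • S : Sylow 2 G) : Subgroup G) := by
    rw [mem_smul_iff, inv_inv]; exact hg
  exact inv_mem_iff.1 (Sylow.smul_eq_iff_mem_normalizer.1 (eq_of_noncentral hCI hxS hx h1))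

theorem centralizer_le_normalizer {S : Sylow 2 G} {x : G} (hxS : x ∈ (S : Subgroup G))
    (hx : ¬ CentralIn S x) : centralizer ({x} : Set G) ≤ normalizer ((S : Subgroup G) : Set G) :=
  fun g hg => conj_noncentral hCI hxS hx (by
    rw [mem_centralizer_singleton_iff.1 hg, mul_inv_cancel_right]; exact hxS)

/-- The normaliser of `S` controls fusion in `S`. -/
theorem fusion {S : Sylow 2 G} {x g : G} (hxS : x ∈ (S : Subgroup G))
    (hg : g * x * g⁻¹ ∈ (S : Subgroup G)) :
    ∃ n ∈ normalizer ((S : Subgroup G) : Set G), n * x * n⁻¹ = g * x * g⁻¹ := by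
  by_cases hx : CentralIn S x
  · by_cases hy : CentralIn S (g * x * g⁻¹)
    · have h1 : (S : Subgroup G) ≤ centralizer ({x} : Set G) := fun s hs =>
        mem_centralizer_singleton_iff.2 (hx s hs)
      have h2 : ((g⁻¹ • S : Sylow 2 G) : Subgroup G) ≤ centralizer ({x} : Set G) := fun s hs => by
        rw [mem_smul_iff, inv_inv] at hs
        refine mem_centralizer_singleton_iff.2 ?_
        calc s * x = g⁻¹ * ((g * s * g⁻¹) * (g * x * g⁻¹)) * g := by group
          _ = g⁻¹ * ((g * x * g⁻¹) * (g * s * g⁻¹)) * g := by rw [hy _ hs]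
          _ = x * s := by group
      obtain ⟨k, hk, hkS⟩ := exists_smul_eq_in h1 h2
      refine ⟨g * k, Sylow.smul_eq_iff_mem_normalizer.1 (by rw [mul_smul, hkS, smul_inv_smul]), ?_⟩
      calc g * k * x * (g * k)⁻¹ = g * (k * x) * k⁻¹ * g⁻¹ := by group
        _ = g * x * g⁻¹ := by rw [mem_centralizer_singleton_iff.1 hk]; group
    · refine absurd hx fun hx' => hy ?_
      have hn := conj_noncentral hCI hg hy (g := g⁻¹) (by simpa [mul_assoc] using hxS)
      intro s hs
      have hs' : g⁻¹ * s * g ∈ (S : Subgroup G) := by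
        have := (mem_normalizer_iff.1 hn s).1 hs
        simpa using this
      calc s * (g * x * g⁻¹) = g * ((g⁻¹ * s * g) * x) * g⁻¹ := by group
        _ = g * (x * (g⁻¹ * s * g)) * g⁻¹ := by rw [hx' _ hs']
        _ = g * x * g⁻¹ * s := by group
  · exact ⟨g, conj_noncentral hCI hxS hx hg, rfl⟩

/-- The hypothesis passes to subgroups containing a Sylow subgroup. -/
theorem ci_subgroup (K : Subgroup G) (U : Sylow 2 G) (hU : (U : Subgroup G) ≤ K) : CI K := by
  have : Fact (Nat.Prime 2) := ⟨Nat.prime_two⟩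
  intro S T hST
  have hlift : ∀ S : Sylow 2 K, ∃ (R : Sylow 2 G) (hR : (R : Subgroup G) ≤ K), R.subtype hR = S := by
    intro S
    obtain ⟨k, hk⟩ := MulAction.exists_smul_eq K (U.subtype hU) S
    rw [Sylow.smul_subtype] at hk
    exact ⟨_, _, hk⟩
  obtain ⟨S', hS', rfl⟩ := hlift S
  obtain ⟨T', hT', rfl⟩ := hlift T
  have hne : S' ≠ T' := fun e => hST (by subst e; rfl)
  refine ⟨S'.subtype hS', fun x hx => ⟨⟨x, hx.1⟩, mem_center_iff.2 fun s => ?_, rfl⟩⟩
  exact Subtype.ext (Subtype.ext (central hCI hne (show (x : G) ∈ (S' : Subgroup G) from hx.1) hx.2 _ s.2))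

/-- The hypothesis passes to all quotients. -/
theorem ci_quotient (N : Subgroup G) [N.Normal] : CI (G ⧸ N) := by
  have : Fact (Nat.Prime 2) := ⟨Nat.prime_two⟩
  intro S T hST
  obtain ⟨S', rfl⟩ := Sylow.mapSurjective_surjective (QuotientGroup.mk'_surjective N) 2 S
  obtain ⟨T', rfl⟩ := Sylow.mapSurjective_surjective (QuotientGroup.mk'_surjective N) 2 T
  refine ⟨S'.mapSurjective (QuotientGroup.mk'_surjective N), ?_⟩
  rintro x ⟨hxS, hxT⟩
  set π := QuotientGroup.mk' N with hπ
  set A : Subgroup G := (S' : Subgroup G) ⊓ ((T' : Subgroup G) ⊔ N) with hA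
  obtain ⟨R, hRK, hAR⟩ := exists_sylow_le_of (le_sup_left : (T' : Subgroup G) ≤ (T' : Subgroup G) ⊔ N)
    (S'.2.to_le (inf_le_left : A ≤ (S' : Subgroup G))) inf_le_right
  have hne : S' ≠ R := by
    intro e
    refine hST ((Sylow.ext ?_).symm)
    refine (T'.mapSurjective (QuotientGroup.mk'_surjective N)).3
      ((S'.mapSurjective (QuotientGroup.mk'_surjective N)).2) ?_ |>.symm.trans ?_
    · rw [Sylow.coe_mapSurjective, Sylow.coe_mapSurjective]
      have h1 : (S' : Subgroup G).map π ≤ ((T' : Subgroup G) ⊔ N).map π := Subgroup.map_mono (e ▸ hRK)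
      rw [Subgroup.map_sup, hπ, QuotientGroup.map_mk'_self, sup_bot_eq] at h1
      have h2 := (S'.mapSurjective (QuotientGroup.mk'_surjective N)).3
        ((T'.mapSurjective (QuotientGroup.mk'_surjective N)).2) h1
      rw [← hπ, show (T' : Subgroup G).map π = (S' : Subgroup G).map π from h2]
    · rfl
  obtain ⟨s, hs, rfl⟩ := hxS
  have hsA : s ∈ A := by
    refine ⟨hs, ?_⟩
    obtain ⟨y, hy, hys⟩ := hxT
    have : y⁻¹ * s ∈ N := QuotientGroup.eq.1 hys
    have h2 := mul_mem_sup hy this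
    rwa [mul_inv_cancel_left] at h2
  refine ⟨⟨π s, mem_map_of_mem _ hs⟩, mem_center_iff.2 ?_, rfl⟩
  rintro ⟨_, r, hr, rfl⟩
  refine Subtype.ext ?_
  show π r * π s = π s * π r
  rw [← map_mul, ← map_mul, central hCI hne hs (hAR hsA) r hr]

end CfsgLib.CentralSylow
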