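import Cfsg.Agent.Lib.SuzukiGroup.Group

/-!
The Sylow 2-subgroups of `Sz(8)`: exponent four, generated modulo involutions by three elements, at least
eight commutators, all squaring to one.
-/

set_option autoImplicit false
set_option linter.unusedSectionVars false
set_option linter.style.haveILetI false

namespace CfsgLib.CentralSylow

open scoped commutatorElement
open CfsgLib.SuzukiGroup Cfsg.Lie

universe u

variable {F : Type} [Field F] [Fintype F] [CharP F 2] (P : Params F 4)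

theorem theta_eq (x : F) : P.θ x = x ^ 4 := P.pow_eq x

theorem comm_uEl (a b a' b' : F) :
    ⁅uEl P a b, uEl P a' b'⁆ = uEl P 0 (a * P.θ a' + a' * P.θ a) := by
  rw [commutatorElement_def, mul_inv_eq_iff_eq_mul, mul_inv_eq_iff_eq_mul, uEl_mul, uEl_mul, uEl_mul]
  congr 1
  · grind
  · simp only [zero_mul]
    grind

theorem sq_uEl (a b : F) : uEl P a b * uEl P a b = uEl P 0 (a * P.θ a) := by
  rw [uEl_mul]; congr 1 <;> grind

theorem uEl_zero_sq (c : F) : uEl P 0 c * uEl P 0 c = 1 := by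
  rw [sq_uEl, zero_mul, uEl_zero]

theorem exists_basis (hF : Fintype.card F = 8) :
    ∃ p q : F, ∀ a : F, ∃ i j k : Fin 2, (i.val : F) + j.val * p + k.val * q = a := by
  classical
  obtain ⟨p, hp⟩ : ∃ p : F, p ∉ ({0, 1} : Finset F) := by
    by_contra h
    push Not at h
    have h1 : (Finset.univ : Finset F).card ≤ ({0, 1} : Finset F).card :=
      Finset.card_le_card fun x _ => h x
    have h2 := h1.trans Finset.card_le_two
    rw [Finset.card_univ] at h2; omega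
  obtain ⟨q, hq⟩ : ∃ q : F, q ∉ ({0, 1, p, 1 + p} : Finset F) := by
    by_contra h
    push Not at h
    have h1 : (Finset.univ : Finset F).card ≤ ({0, 1, p, 1 + p} : Finset F).card :=
      Finset.card_le_card fun x _ => h x
    have h2 := h1.trans Finset.card_le_four
    rw [Finset.card_univ] at h2; omega
  simp only [Finset.mem_insert, Finset.mem_singleton, not_or] at hp hq
  refine ⟨p, q, fun a => ?_⟩
  let f : Fin 2 × Fin 2 × Fin 2 → F := fun v => (v.1.val : F) + v.2.1.val * p + v.2.2.val * q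
  have hf : Function.Injective f := by
    rintro ⟨i, j, k⟩ ⟨i', j', k'⟩ h
    fin_cases i <;> fin_cases j <;> fin_cases k <;> fin_cases i' <;> fin_cases j' <;> fin_cases k' <;>
      simp [f] at h ⊢ <;> grind
  obtain ⟨⟨i, j, k⟩, h⟩ := ((Fintype.bijective_iff_injective_and_card f).2
    ⟨hf, by rw [hF]; rfl⟩).2 a
  exact ⟨i, j, k, h⟩

theorem exists_comm (hF : Fintype.card F = 8) (c : F) :
    ∃ x ∈ unip P, ∃ y ∈ unip P, ⁅x, y⁆ = uEl P 0 c := by
  classical
  rcases eq_or_ne c 0 with rfl | hc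
  · exact ⟨1, one_mem _, 1, one_mem _, by rw [commutatorElement_self, uEl_zero]⟩
  have h7 : ∀ x : F, x ≠ 0 → x ^ 7 = 1 := fun x hx => by
    have := FiniteField.pow_card_sub_one_eq_one x hx
    rwa [hF] at this
  obtain ⟨y, hy⟩ : ∃ y : F, y ∉ ({0, 1} : Finset F) := by
    by_contra h
    push Not at h
    have h1 : (Finset.univ : Finset F).card ≤ ({0, 1} : Finset F).card :=
      Finset.card_le_card fun x _ => h x
    have h2 := h1.trans Finset.card_le_two
    rw [Finset.card_univ] at h2; omega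
  simp only [Finset.mem_insert, Finset.mem_singleton, not_or] at hy
  have hc0 : y ^ 4 + y ≠ 0 := by
    intro h
    have h1 : y * y ^ 3 = y * 1 := by linear_combination h - CharTwo.two_eq_zero (R := F) * y
    have h3 := mul_left_cancel₀ hy.1 h1
    apply hy.2
    calc y = y * (y ^ 3) ^ 2 := by rw [h3]; ring
      _ = y ^ 7 := by ring
      _ = 1 := h7 y hy.1
  obtain ⟨l, hl⟩ : ∃ l : F, l = (c / (y ^ 4 + y)) ^ 3 := ⟨_, rfl⟩
  refine ⟨uEl P l 0, ⟨_, _, rfl⟩, uEl P (l * y) 0, ⟨_, _, rfl⟩, ?_⟩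
  rw [comm_uEl, theta_eq, theta_eq]
  congr 1
  have h5 : l ^ 5 = c / (y ^ 4 + y) := by
    have h := h7 _ (div_ne_zero hc hc0)
    rw [hl]
    linear_combination (c / (y ^ 4 + y)) * ((c / (y ^ 4 + y)) ^ 7 + 1) * h
  calc l * (l * y) ^ 4 + l * y * l ^ 4 = l ^ 5 * (y ^ 4 + y) := by ring
    _ = c := by rw [h5, div_mul_cancel₀ _ hc0]

/-- The facts on a Sylow 2-subgroup of `Sz(8)` used for its covering groups. -/
theorem sz_eight {G : Type u} [Group G] [Finite G] {F : Type} [Field F] [Fintype F]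
    (hF : Fintype.card F = 8) (e : G ≃* ↥(Sz F 4)) (S : Sylow 2 G) :
    (∀ s ∈ (S : Subgroup G), s ^ 4 = 1) ∧
    (∀ a ∈ (S : Subgroup G), ∀ b ∈ (S : Subgroup G), ⁅a, b⁆ ^ 2 = 1) ∧
    (∃ g₁ ∈ (S : Subgroup G), ∃ g₂ ∈ (S : Subgroup G), ∃ g₃ ∈ (S : Subgroup G),
      ∀ t ∈ (S : Subgroup G), ∃ (i j k : ℕ) (u : G), u ∈ (S : Subgroup G) ∧ u ^ 2 = 1 ∧
        t = g₁ ^ i * g₂ ^ j * g₃ ^ k * u) ∧
    ∃ C : Set G, 8 ≤ Nat.card C ∧
      ∀ c ∈ C, ∃ a ∈ (S : Subgroup G), ∃ b ∈ (S : Subgroup G), ⁅a, b⁆ = c := by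
  have : Fact (Nat.Prime 2) := ⟨Nat.prime_two⟩
  obtain ⟨hchar, ⟨P⟩⟩ := exists_params (F := F) (m := 1) hF
  haveI := hchar
  let P : Params F 4 := P
  have hsurj : Function.Surjective e.symm.toMonoidHom := e.symm.surjective
  let S0 : Sylow 2 G := (sylowTwo P).mapSurjective hsurj
  obtain ⟨g, hg⟩ := MulAction.exists_smul_eq G S0 S
  let φ : ↥(Sz F 4) ≃* G := e.symm.trans (MulAut.conj g)
  have hS : (S : Subgroup G) = (unip P).map φ.toMonoidHom := by
    simp only [← hg, S0]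
    rw [Sylow.coe_subgroup_smul, Sylow.coe_mapSurjective, coe_sylowTwo]
    exact Subgroup.map_map _ _ _
  have hmem : ∀ a b, φ (uEl P a b) ∈ (S : Subgroup G) := fun a b => by
    rw [hS]; exact ⟨_, ⟨a, b, rfl⟩, rfl⟩
  have hex : ∀ s ∈ (S : Subgroup G), ∃ a b, s = φ (uEl P a b) := fun s hs => by
    rw [hS] at hs
    obtain ⟨_, ⟨a, b, rfl⟩, rfl⟩ := hs
    exact ⟨a, b, rfl⟩
  refine ⟨fun s hs => ?_, fun s hs t ht => ?_, ?_, ?_⟩
  · obtain ⟨a, b, rfl⟩ := hex s hs
    rw [← map_pow, pow_mul (uEl P a b) 2 2, sq, sq, sq_uEl, uEl_zero_sq, map_one]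
  · obtain ⟨a, b, rfl⟩ := hex s hs
    obtain ⟨a', b', rfl⟩ := hex t ht
    rw [← map_commutatorElement, comm_uEl, ← map_pow, sq, uEl_zero_sq, map_one]
  · obtain ⟨p, q, hpq⟩ := exists_basis (F := F) hF
    refine ⟨φ (uEl P 1 0), hmem _ _, φ (uEl P p 0), hmem _ _, φ (uEl P q 0), hmem _ _, fun t ht => ?_⟩
    obtain ⟨a, b, rfl⟩ := hex t ht
    obtain ⟨i, j, k, hijk⟩ := hpq a
    have hpow : ∀ (x : F) (n : Fin 2), uEl P x 0 ^ n.val = uEl P (n.val * x) 0 := fun x n => by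
      fin_cases n <;> simp [uEl_zero]
    obtain ⟨w, hwa⟩ : ∃ w : F,
        uEl P 1 0 ^ i.val * uEl P p 0 ^ j.val * uEl P q 0 ^ k.val = uEl P a w :=
      ⟨_, by rw [hpow, hpow, hpow, uEl_mul, uEl_mul, mul_one, hijk]⟩
    refine ⟨i.val, j.val, k.val, φ (uEl P 0 (w + b)), hmem _ _, ?_, ?_⟩
    · rw [sq, ← map_mul, uEl_zero_sq, map_one]
    · rw [← map_pow, ← map_pow, ← map_pow, ← map_mul, ← map_mul, ← map_mul, hwa, uEl_mul]
      congr 2
      · simp
      · simp only [map_zero, mul_zero, add_zero]; grind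
  · refine ⟨Set.range fun c => φ (uEl P 0 c), ?_, ?_⟩
    · rw [Nat.card_range_of_injective (fun x y h => (uEl_inj P (φ.injective h)).2),
        Nat.card_eq_fintype_card, hF]
    · rintro _ ⟨c, rfl⟩
      obtain ⟨x, ⟨a, b, rfl⟩, y, ⟨a', b', rfl⟩, h⟩ := exists_comm P hF c
      exact ⟨_, hmem a b, _, hmem a' b', by rw [← map_commutatorElement, h]⟩

end CfsgLib.CentralSylow
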