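import Cfsg.Agent.Lib.CentralSylow.Basic
import Cfsg.Agent.Lib.CentralSylow.SzEight
import Cfsg.Agent.Lib.BenderQ.Classify
import Cfsg.Agent.Lib.BenderQ.Rows
import Cfsg.Agent.Lib.OmegaSevenMult.Transport
import Cfsg.Agent.Lib.Schur.SLTwo
import Cfsg.Agent.S2117
import Cfsg.Agent.S2089
import Cfsg.Agent.S2111

/-!
Central extensions of the groups of Bender type: except over `PSL(2,4)`, the derived subgroup of a Sylow
2-subgroup meets the central kernel trivially, as soon as the elements squaring into the kernel are central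
in the Sylow subgroup.
-/

set_option autoImplicit false
set_option linter.unusedSectionVars false
set_option linter.style.haveILetI false

namespace CfsgLib.CentralSylow

open Subgroup CfsgLib.BenderQ
open scoped commutatorElement

universe u

/-- Over the multiplier: either it is odd, or the group is `PSL(2,4)` or `Sz(8)`. -/
theorem bender_cases {W : Type u} [Group W] (h : IsBenderType W) :
    Nat.card W = 60 ∨
      (∃ n : ℕ, Odd n ∧ Cfsg.HasCyclicSchurMultiplier W n) ∨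
      ∃ (F : Type) (_ : Field F) (_ : Fintype F), Fintype.card F = 8 ∧
        Nonempty (W ≃* ↥(Cfsg.Lie.Sz F 4)) := by
  rcases h with ⟨F, i1, i2, ⟨n, hn, hF⟩, ⟨f⟩⟩ | ⟨F, i1, i2, m, hm, hF, ⟨f⟩⟩ |
    ⟨F, i1, i2, n, hn, hF, ⟨f⟩⟩
  · haveI : Fact (Nat.Prime 2) := ⟨Nat.prime_two⟩
    haveI : CharP F 2 := charP_of_card_eq_prime_pow hF
    obtain ⟨g⟩ := nonempty_sl_equiv_psl F
    rcases eq_or_ne n 2 with rfl | hn2
    · left
      rw [Nat.card_congr (f.trans g).toEquiv, CfsgLib.Schur.natCard_slTwo, hF]; norm_num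
    · have h8 : 8 ≤ Fintype.card F := by
        rw [hF, show (8 : ℕ) = 2 ^ 3 by rfl]; exact Nat.pow_le_pow_right (by norm_num) (by omega : 3 ≤ n)
      have h9 : Fintype.card F ≠ 9 := fun e => by
        have : 2 ∣ (9 : ℕ) := e ▸ hF ▸ dvd_pow_self 2 (by omega)
        omega
      exact Or.inr (Or.inl ⟨1, odd_one, CfsgLib.OmegaSevenMult.hasCyclicSchurMultiplier_congr (f.trans g).symm
        (Cfsg.Agent.S2117.result (by omega) h9)⟩)
  · rcases eq_or_ne m 1 with rfl | hm1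
    · exact Or.inr (Or.inr ⟨F, i1, i2, hF, ⟨f⟩⟩)
    · have : Finite W := Finite.of_equiv _ f.symm.toEquiv
      exact Or.inr (Or.inl ⟨1, odd_one, CfsgLib.OmegaSevenMult.hasCyclicSchurMultiplier_congr f.symm
        (Cfsg.Agent.S2111.result (by omega) hF)⟩)
  · refine Or.inr (Or.inl ⟨Nat.gcd 3 (2 ^ n + 1), Odd.of_dvd_nat (by decide) (Nat.gcd_dvd_left _ _),
      CfsgLib.OmegaSevenMult.hasCyclicSchurMultiplier_congr f.symm
        (Cfsg.Agent.S2089.result 3 (2 ^ n) hF le_rfl ?_ ?_)⟩)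
    · rintro ⟨-, h⟩
      have : 2 ^ 2 ≤ 2 ^ n := Nat.pow_le_pow_right (by norm_num) hn
      omega
    · simp

variable {C : Type u} [Group C] [Finite C] {Z : Subgroup C} [Z.Normal]

theorem commutatorElement_mem_self {H : Subgroup C} {a b : C} (ha : a ∈ H) (hb : b ∈ H) : ⁅a, b⁆ ∈ H :=
  Subgroup.commutator_le_self H (Subgroup.commutator_mem_commutator ha hb)

theorem commutator_perfect (hZ : Z ≤ center C) (hW : commutator (C ⧸ Z) = ⊤) :
    ⁅commutator C, commutator C⁆ = commutator C := by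
  have hLZ : ∀ x : C, ∃ l ∈ commutator C, ∃ z ∈ Z, x = l * z := fun x => by
    have hx : QuotientGroup.mk' Z x ∈ (commutator C).map (QuotientGroup.mk' Z) := by
      rw [_root_.commutator_def, Subgroup.map_commutator,
        Subgroup.map_top_of_surjective _ (QuotientGroup.mk'_surjective Z), ← _root_.commutator_def, hW]
      exact Subgroup.mem_top _
    obtain ⟨l, hl, e⟩ := hx
    exact ⟨l, hl, l⁻¹ * x, QuotientGroup.eq.1 e, by group⟩
  refine le_antisymm (Subgroup.commutator_le_self _) ?_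
  conv_lhs => rw [_root_.commutator_def]
  refine Subgroup.commutator_le.2 fun x _ y _ => ?_
  obtain ⟨l, hl, z, hz, rfl⟩ := hLZ x
  obtain ⟨l', hl', z', hz', rfl⟩ := hLZ y
  have hc : ∀ w : C, ∀ z ∈ Z, w * z = z * w := fun w z hz => mem_center_iff.1 (hZ hz) w
  have h : ⁅l * z, l' * z'⁆ = ⁅l, l'⁆ := by
    rw [commutatorElement_def, commutatorElement_def]
    calc l * z * (l' * z') * (l * z)⁻¹ * (l' * z')⁻¹
        = l * (z * l') * z' * z⁻¹ * l⁻¹ * z'⁻¹ * l'⁻¹ := by group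
      _ = l * l' * (z * z') * z⁻¹ * l⁻¹ * z'⁻¹ * l'⁻¹ := by rw [← hc l' z hz]; group
      _ = l * l' * (z' * z) * z⁻¹ * l⁻¹ * z'⁻¹ * l'⁻¹ := by rw [hc z' z hz]
      _ = l * l' * (z' * l⁻¹) * z'⁻¹ * l'⁻¹ := by group
      _ = l * l' * (l⁻¹ * z') * z'⁻¹ * l'⁻¹ := by rw [hc l⁻¹ z' hz']
      _ = l * l' * l⁻¹ * l'⁻¹ := by group
  rw [h]
  exact Subgroup.commutator_mem_commutator hl hl'

/-- An odd multiplier leaves no 2-element in the intersection of the derived group and the kernel. -/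
theorem eq_one_of_multiplier (hZ : Z ≤ center C) (hW : commutator (C ⧸ Z) = ⊤) {n : ℕ} (hn : Odd n)
    (hM : Cfsg.HasCyclicSchurMultiplier (C ⧸ Z) n) {x : C} (hxL : x ∈ commutator C) (hxZ : x ∈ Z)
    {k : ℕ} (hx : x ^ 2 ^ k = 1) : x = 1 := by
  set L := commutator C
  let σ : L →* C ⧸ Z := (QuotientGroup.mk' Z).comp L.subtype
  have hσ : Cfsg.IsStemExtension σ := by
    refine ⟨fun w => ?_, fun y hy => mem_center_iff.2 fun g => Subtype.ext ?_, fun y _ => ?_⟩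
    · have hw : w ∈ L.map (QuotientGroup.mk' Z) := by
        rw [show L = ⁅(⊤ : Subgroup C), ⊤⁆ from _root_.commutator_def C, Subgroup.map_commutator,
          Subgroup.map_top_of_surjective _ (QuotientGroup.mk'_surjective Z), ← _root_.commutator_def, hW]
        exact Subgroup.mem_top _
      obtain ⟨l, hl, e⟩ := hw
      exact ⟨⟨l, hl⟩, e⟩
    · exact mem_center_iff.1 (hZ ((QuotientGroup.eq_one_iff (y : C)).1 hy)) g
    · have hy' : (y : C) ∈ (commutator L).map L.subtype := by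
        rw [Subgroup.map_subtype_commutator, commutator_perfect hZ hW]; exact y.2
      obtain ⟨y', hy', e⟩ := hy'
      exact (Subtype.ext e : y' = y) ▸ hy'
  obtain ⟨π, hπ⟩ := hM.2 L σ hσ
  obtain ⟨w, hw⟩ := hπ ⟨⟨x, hxL⟩, (QuotientGroup.eq_one_iff x).2 hxZ⟩
  have : NeZero n := ⟨fun h => by rw [h] at hn; exact absurd hn (by decide)⟩
  have h1 : w ^ n = 1 := by
    have := pow_card_eq_one' (x := w)
    rwa [Nat.card_congr Multiplicative.toAdd, Nat.card_zmod] at this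
  have h2 : x ^ n = 1 := by
    have h := congrArg (fun v => (((π v : σ.ker) : L) : C)) h1
    simp only [map_pow, map_one, hw] at h
    simpa using h
  have h3 := pow_gcd_eq_one.2 ⟨h2, hx⟩
  rwa [Nat.Coprime.pow_right k (Nat.coprime_two_right.2 hn), pow_one] at h3

/-- The Sylow 2-subgroups of a central extension of `Sz(8)`. -/
theorem eq_one_of_szEight {F : Type} [Field F] [Fintype F] (hF : Fintype.card F = 8)
    (e : C ⧸ Z ≃* ↥(Cfsg.Lie.Sz F 4)) (S : Sylow 2 C)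
    (hlift : ∀ s ∈ (S : Subgroup C), s * s ∈ Z → CentralIn S s) {x : C}
    (hxS : x ∈ ⁅(S : Subgroup C), (S : Subgroup C)⁆) (hxZ : x ∈ Z) : x = 1 := by
  have : Fact (Nat.Prime 2) := ⟨Nat.prime_two⟩
  let S1 : Sylow 2 (C ⧸ Z) := S.mapSurjective (QuotientGroup.mk'_surjective Z)
  have hS1 : ∀ s ∈ (S : Subgroup C), (s : C ⧸ Z) ∈ (S1 : Subgroup (C ⧸ Z)) := fun s hs => ⟨s, hs, rfl⟩
  have hex : ∀ w ∈ (S1 : Subgroup (C ⧸ Z)), ∃ s ∈ (S : Subgroup C), (s : C ⧸ Z) = w := fun w hw => hw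
  obtain ⟨h4, hc2, ⟨g₁, hg₁, g₂, hg₂, g₃, hg₃, hgen⟩, Cs, hCs, hcomm⟩ := sz_eight hF e S1
  have hmem : ∀ {s : C}, ((s : C) : C ⧸ Z) = 1 → s ∈ Z := fun h => (QuotientGroup.eq_one_iff _).1 h
  have hcen : ∀ a ∈ (S : Subgroup C), ∀ b ∈ (S : Subgroup C), CentralIn S ⁅a, b⁆ := fun a ha b hb => by
    refine hlift _ (commutatorElement_mem_self ha hb) (hmem ?_)
    rw [← hc2 _ (hS1 a ha) _ (hS1 b hb), sq]; rfl
  have hmul : ∀ a ∈ (S : Subgroup C), ∀ a' ∈ (S : Subgroup C), ∀ b ∈ (S : Subgroup C),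
      ⁅a * a', b⁆ = ⁅a', b⁆ * ⁅a, b⁆ := fun a ha a' ha' b hb => by
    rw [show ⁅a * a', b⁆ = a * ⁅a', b⁆ * a⁻¹ * ⁅a, b⁆ by
      simp only [commutatorElement_def]; group, hcen a' ha' b hb a ha, mul_inv_cancel_right]
  have hsq : ∀ a ∈ (S : Subgroup C), ∀ b ∈ (S : Subgroup C), ⁅a, b⁆ * ⁅a, b⁆ = 1 := fun a ha b hb => by
    rw [← hmul a ha a ha b hb, commutatorElement_eq_one_iff_mul_comm]
    refine (hlift (a * a) (mul_mem ha ha) (hmem ?_) b hb).symm
    rw [← h4 _ (hS1 a ha)]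
    rw [QuotientGroup.mk_mul, QuotientGroup.mk_mul]
    simp only [pow_succ, pow_zero, one_mul, mul_assoc]
  obtain ⟨h₁, hh₁, e₁⟩ := hex g₁ hg₁
  obtain ⟨h₂, hh₂, e₂⟩ := hex g₂ hg₂
  obtain ⟨h₃, hh₃, e₃⟩ := hex g₃ hg₃
  let c : Fin 2 × Fin 2 × Fin 2 → C := fun v =>
    ⁅h₁, h₂⁆ ^ v.1.val * ⁅h₁, h₃⁆ ^ v.2.1.val * ⁅h₂, h₃⁆ ^ v.2.2.val
  have hp : ∀ d : C, d * d = 1 → ∀ i j : Fin 2, d ^ i.val * d ^ j.val = d ^ (i + j).val := by
    intro d hd i j
    fin_cases i <;> fin_cases j <;> simp [hd]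
  have hcc : ∀ a ∈ (S : Subgroup C), ∀ b ∈ (S : Subgroup C), ∀ s ∈ (S : Subgroup C),
      Commute ⁅a, b⁆ s := fun a ha b hb s hs => (hcen a ha b hb s hs).symm
  have h12 : ⁅h₁, h₂⁆ ∈ (S : Subgroup C) := commutatorElement_mem_self hh₁ hh₂
  have h13 : ⁅h₁, h₃⁆ ∈ (S : Subgroup C) := commutatorElement_mem_self hh₁ hh₃
  have hadd : ∀ v w, c v * c w = c (v + w) := by
    rintro ⟨i, j, k⟩ ⟨i', j', k'⟩
    simp only [c, Prod.mk_add_mk]
    rw [← hp _ (hsq _ hh₁ _ hh₂), ← hp _ (hsq _ hh₁ _ hh₃), ← hp _ (hsq _ hh₂ _ hh₃)]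
    rw [mul_assoc (⁅h₁, h₂⁆ ^ i.val * ⁅h₁, h₃⁆ ^ j.val), ← mul_assoc (⁅h₂, h₃⁆ ^ k.val),
      ← mul_assoc (⁅h₂, h₃⁆ ^ k.val),
      ((hcc _ hh₂ _ hh₃ _ h12).pow_pow k.val i'.val).eq,
      mul_assoc (⁅h₁, h₂⁆ ^ i'.val), ((hcc _ hh₂ _ hh₃ _ h13).pow_pow k.val j'.val).eq]
    rw [mul_assoc (⁅h₁, h₂⁆ ^ i.val), ← mul_assoc (⁅h₁, h₃⁆ ^ j.val),
      ← mul_assoc (⁅h₁, h₃⁆ ^ j.val), ((hcc _ hh₁ _ hh₃ _ h12).pow_pow j.val i'.val).eq]
    group
  have hc0 : c 0 = 1 := by simp [c]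
  let K : Subgroup C :=
    { carrier := Set.range c
      mul_mem' := by rintro _ _ ⟨v, rfl⟩ ⟨w, rfl⟩; exact ⟨_, (hadd v w).symm⟩
      one_mem' := ⟨0, hc0⟩
      inv_mem' := by
        rintro _ ⟨v, rfl⟩
        exact ⟨v, eq_inv_of_mul_eq_one_left (by
          rw [hadd, show v + v = 0 by revert v; decide, hc0])⟩ }
  have hK8 : Nat.card K ≤ 8 := by
    have : Nat.card K ≤ Nat.card (Fin 2 × Fin 2 × Fin 2) :=
      Nat.card_le_card_of_surjective (fun v => (⟨c v, v, rfl⟩ : K))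
        (fun ⟨_, v, hv⟩ => ⟨v, Subtype.ext hv⟩)
    simpa using this
  have k12 : ⁅h₁, h₂⁆ ∈ K := ⟨(1, 0, 0), by simp [c]⟩
  have k13 : ⁅h₁, h₃⁆ ∈ K := ⟨(0, 1, 0), by simp [c]⟩
  have k23 : ⁅h₂, h₃⁆ ∈ K := ⟨(0, 0, 1), by simp [c]⟩
  have hred : ∀ b ∈ (S : Subgroup C), ⁅h₁, b⁆ ∈ K → ⁅h₂, b⁆ ∈ K → ⁅h₃, b⁆ ∈ K →
      ∀ a ∈ (S : Subgroup C), ⁅a, b⁆ ∈ K := by
    intro b hb k1 k2 k3 a ha
    have hpw : ∀ a ∈ (S : Subgroup C), ⁅a, b⁆ ∈ K → ∀ i : ℕ, ⁅a ^ i, b⁆ ∈ K := fun a ha hk i => by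
      induction i with
      | zero => rw [pow_zero, commutatorElement_one_left]; exact one_mem _
      | succ i ih => rw [pow_succ, hmul _ (pow_mem ha i) _ ha b hb]; exact mul_mem hk ih
    obtain ⟨i, j, k, u, hu, hu2, hau⟩ := hgen _ (hS1 a ha)
    obtain ⟨v, hvdef⟩ : ∃ v, v = (h₁ ^ i * h₂ ^ j * h₃ ^ k)⁻¹ * a := ⟨_, rfl⟩
    have hp₁ := pow_mem hh₁ i
    have hp₂ := pow_mem hh₂ j
    have hp₃ := pow_mem hh₃ k
    have hv : v ∈ (S : Subgroup C) := hvdef ▸ mul_mem (inv_mem (mul_mem (mul_mem hp₁ hp₂) hp₃)) ha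
    have hvu : (v : C ⧸ Z) = u := by
      rw [hvdef, QuotientGroup.mk_mul, QuotientGroup.mk_inv, QuotientGroup.mk_mul, QuotientGroup.mk_mul,
        QuotientGroup.mk_pow, QuotientGroup.mk_pow, QuotientGroup.mk_pow, e₁, e₂, e₃, hau]
      group
    have hvK : ⁅v, b⁆ ∈ K := by
      rw [commutatorElement_eq_one_iff_mul_comm.2 (hlift v hv (hmem ?_) b hb).symm]
      · exact one_mem _
      · rw [QuotientGroup.mk_mul, hvu, ← sq, hu2]
    rw [show a = h₁ ^ i * h₂ ^ j * h₃ ^ k * v by rw [hvdef]; group,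
      hmul _ (mul_mem (mul_mem hp₁ hp₂) hp₃) _ hv b hb, hmul _ (mul_mem hp₁ hp₂) _ hp₃ b hb,
      hmul _ hp₁ _ hp₂ b hb]
    exact mul_mem hvK (mul_mem (hpw _ hh₃ k3 k) (mul_mem (hpw _ hh₂ k2 j) (hpw _ hh₁ k1 i)))
  have hself : ∀ a : C, ⁅a, a⁆ ∈ K := fun a => by rw [commutatorElement_self]; exact one_mem _
  have hsymm : ∀ {a b : C}, ⁅a, b⁆ ∈ K → ⁅b, a⁆ ∈ K := fun h => by
    rw [← commutatorElement_inv]; exact inv_mem h
  have hSK : ⁅(S : Subgroup C), (S : Subgroup C)⁆ ≤ K := Subgroup.commutator_le.2 fun a ha b hb =>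
    hred b hb (hsymm (hred _ hh₁ (hself _) (hsymm k12) (hsymm k13) b hb))
      (hsymm (hred _ hh₂ k12 (hself _) (hsymm k23) b hb))
      (hsymm (hred _ hh₃ k13 k23 (hself _) b hb)) a ha
  -- the derived group maps injectively
  set D := ⁅(S : Subgroup C), (S : Subgroup C)⁆
  let f : D → Set.range (fun d : D => ((d : C) : C ⧸ Z)) := Set.rangeFactorization _
  have hle : Nat.card D ≤ Nat.card (Set.range (fun d : D => ((d : C) : C ⧸ Z))) := by
    refine ((Subgroup.card_le_of_le hSK).trans (hK8.trans hCs)).trans (Nat.card_mono (Set.toFinite _) ?_)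
    intro w hw
    obtain ⟨a, ha, b, hb, rfl⟩ := hcomm w hw
    obtain ⟨a', ha', rfl⟩ := hex a ha
    obtain ⟨b', hb', rfl⟩ := hex b hb
    exact ⟨⟨⁅a', b'⁆, Subgroup.commutator_mem_commutator ha' hb'⟩, rfl⟩
  have hinj := (Function.Surjective.bijective_of_nat_card_le Set.rangeFactorization_surjective hle).1
  have h := @hinj ⟨x, hxS⟩ 1 (Subtype.ext ((QuotientGroup.eq_one_iff x).2 hxZ))
  exact congrArg Subtype.val h

/-- The derived group of a Sylow 2-subgroup of an extension of `Sz(8)` is not in the kernel. -/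
theorem not_derived_le_of_szEight {F : Type} [Field F] [Fintype F] (hF : Fintype.card F = 8)
    (e : C ⧸ Z ≃* ↥(Cfsg.Lie.Sz F 4)) (S : Sylow 2 C) :
    ¬ ⁅(S : Subgroup C), (S : Subgroup C)⁆ ≤ Z := by
  have : Fact (Nat.Prime 2) := ⟨Nat.prime_two⟩
  intro hle
  obtain ⟨-, -, -, Cs, hCs, hcomm⟩ := sz_eight hF e (S.mapSurjective (QuotientGroup.mk'_surjective Z))
  have hsub : Cs ⊆ {1} := fun w hw => by
    obtain ⟨_, ⟨a, ha, rfl⟩, _, ⟨b, hb, rfl⟩, rfl⟩ := hcomm w hw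
    exact (QuotientGroup.eq_one_iff ⁅a, b⁆).2 (hle (Subgroup.commutator_mem_commutator ha hb))
  have := Nat.card_mono (Set.toFinite _) hsub
  rw [Nat.card_unique (α := ({1} : Set (C ⧸ Z)))] at this
  omega

/-- The dichotomy for central extensions of groups of Bender type. -/
theorem cover_dichotomy (hZ : Z ≤ center C) (hB : IsBenderType (C ⧸ Z)) (hna : ∃ a b : C ⧸ Z, a * b ≠ b * a)
    (S : Sylow 2 C) :
    Nat.card ↥((S : Subgroup C).map (QuotientGroup.mk' Z)) = 4 ∨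
      ((∀ s ∈ (S : Subgroup C), s * s ∈ Z → CentralIn S s) ∨ ⁅(S : Subgroup C), (S : Subgroup C)⁆ ≤ Z →
        ∀ x ∈ ⁅(S : Subgroup C), (S : Subgroup C)⁆, x ∈ Z → x = 1) := by
  have : Fact (Nat.Prime 2) := ⟨Nat.prime_two⟩
  rcases bender_cases hB with h60 | ⟨n, hn, hM⟩ | ⟨F, i1, i2, hF, ⟨e⟩⟩
  · left
    rw [← Sylow.coe_mapSurjective (QuotientGroup.mk'_surjective Z) S,
      Sylow.card_eq_multiplicity, h60]
    rw [show (60 : ℕ) = 2 ^ 2 * 15 by rfl, Nat.factorization_mul (by norm_num) (by norm_num),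
      Nat.Prime.factorization_pow Nat.prime_two]
    rw [Finsupp.add_apply, Finsupp.single_eq_same, Nat.factorization_eq_zero_of_not_dvd (by norm_num : ¬ 2 ∣ 15)]
    rfl
  · refine Or.inr fun _ x hx hxZ => ?_
    haveI := hB.isSimple
    have hW : commutator (C ⧸ Z) = ⊤ := by
      refine ((IsSimpleGroup.eq_bot_or_eq_top_of_normal _ inferInstance).resolve_left fun h => ?_)
      obtain ⟨a, b, hab⟩ := hna
      exact hab (commutatorElement_eq_one_iff_mul_comm.1 (Subgroup.mem_bot.1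
        (h ▸ Subgroup.commutator_mem_commutator (Subgroup.mem_top a) (Subgroup.mem_top b))))
    have hxS : x ∈ (S : Subgroup C) := Subgroup.commutator_le_self _ hx
    obtain ⟨k, hk⟩ := S.2 ⟨x, hxS⟩
    exact eq_one_of_multiplier hZ hW hn hM
      (Subgroup.commutator_mono (le_top) (le_top) hx) hxZ (k := k) (congrArg Subtype.val hk)
  · exact Or.inr fun hlift x hx hxZ => eq_one_of_szEight hF e S
      (hlift.resolve_right (not_derived_le_of_szEight hF e S)) hx hxZ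

end CfsgLib.CentralSylow
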