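import Cfsg.Agent.Lib.CentralSylow.Reduce
import Cfsg.Agent.Lib.CentralSylow.Covers
import Cfsg.Agent.Lib.CTwoAbelian.Cover
import Cfsg.Agent.Lib.Small.OrderSixty
import Cfsg.Agent.Lib.SUMult.Final
import Cfsg.Agent.Lib.SchurCover.Unique

/-!
Tools for the structure theorem: Sylow subgroups of `SL(2,2^n)`, recognition of the covers `SL(2,5)` and
`SU(3,q)`, centrality of the odd core.
-/

set_option autoImplicit false
set_option linter.unusedSectionVars false
set_option linter.style.haveILetI false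

namespace CfsgLib.CentralSylow

open Subgroup Pointwise Matrix
open scoped commutatorElement

universe u

/-- The Sylow 2-subgroups of a group isomorphic to `SL(2,2^n)` are commutative. -/
theorem sl_sylow_comm {W : Type u} [Group W] [Finite W] {F : Type} [Field F] [Fintype F] {n : ℕ} (hn : n ≠ 0)
    (hF : Fintype.card F = 2 ^ n) (e : W ≃* SpecialLinearGroup (Fin 2) F) (V : Sylow 2 W) :
    ∀ a ∈ (V : Subgroup W), ∀ b ∈ (V : Subgroup W), a * b = b * a := by
  have : Fact (Nat.Prime 2) := ⟨Nat.prime_two⟩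
  let U := (CfsgLib.Schur.slUnip (F := F)).range
  have hU : Nat.card U = 2 ^ n := by
    rw [← Nat.card_congr (MonoidHom.ofInjective CfsgLib.Schur.slUnip_injective).toEquiv,
      Nat.card_congr Multiplicative.toAdd, Nat.card_eq_fintype_card, hF]
  have hidx : ¬ 2 ∣ U.index := by
    have h := U.card_mul_index
    rw [hU, CfsgLib.Schur.natCard_slTwo, hF] at h
    rw [Nat.eq_of_mul_eq_mul_left (pow_pos two_pos n) h]
    obtain ⟨k, hk⟩ : 2 ∣ 2 ^ n := dvd_pow_self 2 hn
    intro hd
    rcases Nat.prime_two.dvd_mul.1 hd with h | h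
    · have := Nat.two_pow_pos n; omega
    · omega
  let T : Sylow 2 (SpecialLinearGroup (Fin 2) F) := (IsPGroup.of_card (n := n) hU).toSylow hidx
  obtain ⟨g, hg⟩ := MulAction.exists_smul_eq (SpecialLinearGroup (Fin 2) F) T
    (V.mapSurjective (f := e.toMonoidHom) e.surjective)
  intro a ha b hb
  have hmem : ∀ c ∈ (V : Subgroup W), ∃ t : Multiplicative F, g⁻¹ * e c * g = CfsgLib.Schur.slUnip t :=
    fun c hc => by
      have h1 : e c ∈ ((g • T : Sylow 2 _) : Subgroup (SpecialLinearGroup (Fin 2) F)) := hg ▸ ⟨c, hc, rfl⟩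
      obtain ⟨t, ht⟩ := mem_smul_iff.1 h1
      exact ⟨t, ht.symm⟩
  obtain ⟨t, ht⟩ := hmem a ha
  obtain ⟨t', ht'⟩ := hmem b hb
  refine e.injective ?_
  rw [map_mul, map_mul, show e a = g * CfsgLib.Schur.slUnip t * g⁻¹ by rw [← ht]; group,
    show e b = g * CfsgLib.Schur.slUnip t' * g⁻¹ by rw [← ht']; group]
  rw [show g * CfsgLib.Schur.slUnip t * g⁻¹ * (g * CfsgLib.Schur.slUnip t' * g⁻¹) =
      g * (CfsgLib.Schur.slUnip t * CfsgLib.Schur.slUnip t') * g⁻¹ by group,
    show g * CfsgLib.Schur.slUnip t' * g⁻¹ * (g * CfsgLib.Schur.slUnip t * g⁻¹) =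
      g * (CfsgLib.Schur.slUnip t' * CfsgLib.Schur.slUnip t) * g⁻¹ by group, ← map_mul, ← map_mul,
    mul_comm]

/-- The proper cover of the simple group of order sixty. -/
theorem sl25_of_cover {K : Type u} [Group K] [Finite K] (hp : Group.IsPerfect K)
    [IsSimpleGroup (K ⧸ Subgroup.center K)] (h60 : Nat.card (K ⧸ Subgroup.center K) = 60)
    (hne : Subgroup.center K ≠ ⊥) : Nonempty (K ≃* SpecialLinearGroup (Fin 2) (ZMod 5)) := by
  haveI : Fact (Nat.Prime 5) := ⟨by norm_num⟩
  obtain ⟨e5⟩ := CfsgLib.Small.nonempty_mulEquiv_psl_five (G := K ⧸ Subgroup.center K) h60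
  have h5 : Fintype.card (ULift.{u} (ZMod 5)) = 5 := by rw [Fintype.card_ulift, ZMod.card]
  obtain ⟨η, hsurj, hker, hbot⟩ := CfsgLib.CTwoAbelian.exists_of_psl_two (K := K) ⟨hp, inferInstance⟩
    (F := ULift.{u} (ZMod 5)) (by omega) (by omega) (by omega)
    (e5.trans (CfsgLib.CTwoAbelian.pslLift (ZMod 5)))
  have hk : η.ker = ⊥ := by
    by_contra hk
    refine hne (hbot ?_)
    have hc2 : Nat.card (Subgroup.center (SpecialLinearGroup (Fin 2) (ULift.{u} (ZMod 5)))) = 2 := by
      rw [Cfsg.Agent.Classical.card_center_sl 2 (by norm_num), h5]; rfl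
    refine Subgroup.eq_of_le_of_card_ge hker ?_
    have h1 := (Subgroup.one_lt_card_iff_ne_bot _).2 hk
    omega
  let r := Matrix.SpecialLinearGroup.map (n := Fin 2) (ULift.ringEquiv (R := ZMod 5)).toRingHom
  have hr : Function.Bijective r := by
    constructor
    · intro a b h
      refine Subtype.ext (Matrix.ext fun i j => ?_)
      exact (ULift.ringEquiv (R := ZMod 5)).injective (congrFun (congrFun (congrArg Subtype.val h) i) j)
    · intro a
      exact ⟨SpecialLinearGroup.map (ULift.ringEquiv (R := ZMod 5)).symm.toRingHom a,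
        Subtype.ext (Matrix.ext fun i j => rfl)⟩
  exact ⟨(MulEquiv.ofBijective η ⟨(MonoidHom.ker_eq_bot_iff η).1 hk, hsurj⟩).symm.trans
    (MulEquiv.ofBijective r hr)⟩

/-- The proper cover of `PSU(3,q)`. -/
theorem su_of_cover {L : Type u} [Group L] [Finite L] {F : Type} [Field F] [Fintype F] {n : ℕ} (hn : 2 ≤ n)
    (hF : Fintype.card F = (2 ^ n) ^ 2) (σ : L →* Cfsg.PSU 3 F (2 ^ n)) (hσ : Cfsg.IsStemExtension σ)
    (hne : σ.ker ≠ ⊥) : Nonempty (L ≃* ↥(Cfsg.SU 3 F (2 ^ n))) := by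
  have h32 : ¬((3 : ℕ) = 3 ∧ 2 ^ n = 2) := fun h => by
    have : 2 ^ 2 ≤ 2 ^ n := Nat.pow_le_pow_right (by norm_num) hn
    omega
  have hM : Cfsg.HasCyclicSchurMultiplier (Cfsg.PSU 3 F (2 ^ n)) (Nat.gcd 3 (2 ^ n + 1)) :=
    CfsgLib.SUMult.hasCyclicSchurMultiplier_psu hF le_rfl h32 (by omega) (by omega) (by omega)
  have hperf : commutator ↥(Cfsg.SU 3 F (2 ^ n)) = ⊤ :=
    CfsgLib.ClassicalGroups.SU_perfect hF le_rfl h32
  let π := QuotientGroup.mk' (Subgroup.center ↥(Cfsg.SU 3 F (2 ^ n)))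
  have hπ : Cfsg.IsStemExtension π := ⟨QuotientGroup.mk'_surjective _, by rw [QuotientGroup.ker_mk'],
    by rw [hperf]; exact le_top⟩
  obtain ⟨ec⟩ := CfsgLib.SUMult.center_su_equiv hF (show 1 ≤ 3 by omega)
  -- move the cover to the lowest universe
  obtain ⟨k, ⟨d⟩⟩ := Finite.exists_equiv_fin L
  have : Small.{0} L := Small.mk' d
  let d' : Shrink.{0} L ≃* L := Shrink.mulEquiv (α := L)
  have : Finite (Shrink.{0} L) := Finite.of_equiv L d'.symm.toEquiv
  let ρ := σ.comp d'.toMonoidHom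
  have hρ : Cfsg.IsStemExtension ρ := CfsgLib.OmegaSevenMult.stem_comp_source d' σ hσ
  have hρne : ρ.ker ≠ ⊥ := fun e => hne (by
    rw [eq_bot_iff]
    intro x hx
    have h1 : d'.symm x ∈ ρ.ker := by show σ (d' (d'.symm x)) = 1; rw [d'.apply_symm_apply]; exact hx
    rw [e, Subgroup.mem_bot] at h1
    exact Subgroup.mem_bot.2 (d'.symm.injective (h1.trans d'.symm.map_one.symm)))
  obtain ⟨p, hp⟩ := hM.2 (Shrink.{0} L) ρ hρ
  haveI : NeZero (Nat.gcd 3 (2 ^ n + 1)) := ⟨(Nat.gcd_pos_of_pos_left _ (by norm_num)).ne'⟩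
  have hg : Nat.gcd 3 (2 ^ n + 1) = 3 := by
    rcases (Nat.dvd_prime Nat.prime_three).1 (Nat.gcd_dvd_left 3 (2 ^ n + 1)) with h | h
    · exfalso
      refine hρne (Subgroup.eq_bot_of_card_le _ ?_)
      refine (Nat.card_le_card_of_surjective p hp).trans ?_
      rw [Nat.card_congr Multiplicative.toAdd, Nat.card_zmod, h]
    · exact h
  have hpb : Function.Bijective p := by
    refine ⟨?_, hp⟩
    have h1 : Nat.card ρ.ker ≤ 3 := (Nat.card_le_card_of_surjective p hp).trans_eq (by
      rw [Nat.card_congr Multiplicative.toAdd, Nat.card_zmod, hg])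
    have h2 : 1 < Nat.card ρ.ker := (Subgroup.one_lt_card_iff_ne_bot _).2 hρne
    have h3 : Nat.card ρ.ker ∣ 3 := by
      have := Subgroup.card_dvd_of_surjective p hp
      rwa [Nat.card_congr Multiplicative.toAdd, Nat.card_zmod, hg] at this
    have h4 : Nat.card ρ.ker = 3 :=
      ((Nat.dvd_prime Nat.prime_three).1 h3).resolve_left (by omega)
    exact (Function.Surjective.bijective_of_nat_card_le hp (by
      rw [Nat.card_congr Multiplicative.toAdd, Nat.card_zmod, hg, h4])).1
  obtain ⟨e, -⟩ := CfsgLib.SchurCover.exists_equiv_of_coprime hM (by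
      rw [show Nat.card (Abelianization (Cfsg.PSU 3 F (2 ^ n))) = 1 from ?_]
      · exact Nat.coprime_one_left _
      · have h1 : commutator (Cfsg.PSU 3 F (2 ^ n)) = ⊤ := by
          rw [_root_.commutator_def, ← Subgroup.map_top_of_surjective _
            (QuotientGroup.mk'_surjective (Subgroup.center ↥(Cfsg.SU 3 F (2 ^ n)))), ← Subgroup.map_commutator,
            ← _root_.commutator_def, hperf]
        show Nat.card (Cfsg.PSU 3 F (2 ^ n) ⧸ commutator (Cfsg.PSU 3 F (2 ^ n))) = 1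
        rw [← Subgroup.index_eq_card, h1, Subgroup.index_top])
    π ρ hπ hρ ((MulEquiv.subgroupCongr (QuotientGroup.ker_mk' _)).trans ec) (MulEquiv.ofBijective p hpb).symm
  exact ⟨d'.symm.trans e.symm⟩

variable {H : Type u} [Group H] [Finite H] (hCI : CI H) (hna : NonAb H)
include hCI hna

/-- A normal subgroup of odd order is central, unless some Sylow 2-subgroup has cyclic derived group. -/
theorem odd_normal_le_center (hg : Gen H) (N : Subgroup H) [N.Normal] (hN : Odd (Nat.card N))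
    (hd : ∀ (S : Sylow 2 H) (c : H), ¬ ⁅(S : Subgroup H), (S : Subgroup H)⁆ ≤ zpowers c) :
    N ≤ Subgroup.center H := by
  have hS : ∀ (S : Sylow 2 H) (P : Subgroup H), Odd (Nat.card P) →
      (S : Subgroup H) ≤ normalizer (P : Set H) → (S : Subgroup H) ≤ centralizer (P : Set H) := by
    intro S P hP hSP
    induction P using WellFoundedLT.induction with
    | _ P ih =>
      refine (centralizes_step_or hCI hna hP hSP fun R hR hRN =>
        ih R hR (hP.of_dvd_nat (Subgroup.card_dvd_of_le hR.le)) hRN).resolve_right ?_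
      rintro ⟨c, z, hc, -⟩
      exact hd S c (Subgroup.commutator_le.2 fun x hx y hy => hc x hx y hy)
  intro o ho
  have h : (⊤ : Subgroup H) ≤ centralizer ({o} : Set H) := by
    conv_lhs => rw [← hg]
    refine iSup_le fun S s hs => mem_centralizer_singleton_iff.2 ?_
    exact (mem_centralizer_iff.1 (hS S N hN (Subgroup.normalizer_eq_top (H := N) ▸ le_top) hs) o ho).symm
  exact mem_center_iff.2 fun g => mem_centralizer_singleton_iff.1 (h (Subgroup.mem_top g))

/-- Without core and centre, no Sylow 2-subgroup has cyclic derived group. -/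
theorem derived_not_cyclic (hO : Cfsg.oddCore H = ⊥) (hc : Subgroup.center H = ⊥) (S : Sylow 2 H) (c : H) :
    ¬ ⁅(S : Subgroup H), (S : Subgroup H)⁆ ≤ zpowers c := by
  have : Fact (Nat.Prime 2) := ⟨Nat.prime_two⟩
  intro hle
  set D := ⁅(S : Subgroup H), (S : Subgroup H)⁆ with hD
  obtain ⟨a, ha, b, hb, hab⟩ := hna S
  have hD1 : D ≠ ⊥ := fun e => hab (commutatorElement_eq_one_iff_mul_comm.1
    (Subgroup.mem_bot.1 (e ▸ Subgroup.commutator_mem_commutator ha hb)))
  haveI : IsCyclic D := Subgroup.isCyclic_of_le hle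
  have hD2 : IsPGroup 2 D := S.2.to_le (Subgroup.commutator_le_self _)
  haveI := (Subgroup.nontrivial_iff_ne_bot D).2 hD1
  obtain ⟨k, hk⟩ := IsPGroup.iff_card.1 hD2
  have h2 : 2 ∣ Nat.card D := by
    have h1 : 1 < Nat.card D := Finite.one_lt_card
    rw [hk] at h1 ⊢
    exact dvd_pow_self 2 fun e => by rw [e] at h1; simp at h1
  obtain ⟨z, hz⟩ := exists_prime_orderOf_dvd_card' 2 h2
  have huniq : ∀ w : D, orderOf w = 2 → w = z := fun w hw => by
    by_contra hne
    classical
    haveI : Fintype D := Fintype.ofFinite D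
    have h3 := IsCyclic.card_orderOf_eq_totient (α := D) (d := 2) (by rwa [← Nat.card_eq_fintype_card])
    rw [Nat.totient_two] at h3
    obtain ⟨v, hv⟩ := Finset.card_eq_one.1 h3
    have h4 : ∀ u : D, orderOf u = 2 → u = v := fun u hu =>
      Finset.mem_singleton.1 (hv ▸ Finset.mem_filter.2 ⟨Finset.mem_univ u, hu⟩)
    exact hne ((h4 w hw).trans (h4 z hz).symm)
  rw [← Subgroup.orderOf_coe] at hz
  have hcen := isolated_central hCI hO hz (Subgroup.commutator_le_self _ z.2) fun n hn => by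
    have hmem : n * z * n⁻¹ ∈ D := by
      have key : D.map (MulAut.conj n).toMonoidHom = D := by
        have hn' : (S : Subgroup H).map (MulAut.conj n).toMonoidHom = (S : Subgroup H) :=
          Subgroup.mem_normalizer_iff_map_conj_eq.1 hn
        rw [hD, Subgroup.map_commutator, hn']
      exact key.le (Subgroup.mem_map_of_mem (MulAut.conj n).toMonoidHom z.2)
    refine congrArg Subtype.val (huniq ⟨_, hmem⟩ ?_)
    rw [← Subgroup.orderOf_coe]
    exact (CfsgLib.Involutions.orderOf_conj_eq n (z : H)).trans hz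
  rw [hc, Subgroup.mem_bot] at hcen
  rw [hcen, orderOf_one] at hz
  exact absurd hz (by norm_num)

omit hCI in
/-- Outside `PSL(2,4)` the image of a non-abelian Sylow subgroup is non-abelian. -/
theorem nonab_quotient {Z : Subgroup H} [Z.Normal] (hZ : Z ≤ Subgroup.center H)
    (hW : commutator (H ⧸ Z) = ⊤)
    (hM : (∃ n : ℕ, Odd n ∧ Cfsg.HasCyclicSchurMultiplier (H ⧸ Z) n) ∨
      ∃ (F : Type) (_ : Field F) (_ : Fintype F), Fintype.card F = 8 ∧
        Nonempty (H ⧸ Z ≃* ↥(Cfsg.Lie.Sz F 4))) : NonAb (H ⧸ Z) := by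
  have : Fact (Nat.Prime 2) := ⟨Nat.prime_two⟩
  intro V
  obtain ⟨S, rfl⟩ := Sylow.mapSurjective_surjective (QuotientGroup.mk'_surjective Z) 2 V
  by_contra hcon
  push Not at hcon
  have hle : ⁅(S : Subgroup H), (S : Subgroup H)⁆ ≤ Z := Subgroup.commutator_le.2 fun a ha b hb =>
    (QuotientGroup.eq_one_iff _).1 <| show QuotientGroup.mk' Z ⁅a, b⁆ = 1 by
      rw [map_commutatorElement, commutatorElement_eq_one_iff_mul_comm]
      exact hcon _ ⟨a, ha, rfl⟩ _ ⟨b, hb, rfl⟩
  rcases hM with ⟨n, hn, hM⟩ | ⟨F, i1, i2, hF, ⟨e⟩⟩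
  · obtain ⟨a, ha, b, hb, hab⟩ := hna S
    have h1 := Subgroup.commutator_mem_commutator ha hb
    obtain ⟨k, hk⟩ := mem_two_pow (Subgroup.commutator_le_self _ h1)
    exact hab (commutatorElement_eq_one_iff_mul_comm.1 (eq_one_of_multiplier hZ hW hn hM
      (Subgroup.commutator_mono le_top le_top h1) (hle h1) hk))
  · exact not_derived_le_of_szEight hF e S hle

end CfsgLib.CentralSylow
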