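import Cfsg.Agent.Lib.CentralSylow.Main
import Cfsg.Agent.Lib.CentralSylow.Ends
import Cfsg.Agent.S0205
import Cfsg.Prelude.Def_Local
import Cfsg.Prelude.Def_TwoFusion

/-!
Structure of the groups with central Sylow 2-intersections.
-/

set_option autoImplicit false
set_option linter.unusedSectionVars false
set_option linter.style.haveILetI false

namespace CfsgLib.CentralSylow

open Subgroup Pointwise CfsgLib.BenderQ
open scoped commutatorElement

universe u

theorem isSolvable_of_odd_two {G : Type u} [Group G] [Finite G] (H : Subgroup G) [H.Normal]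
    (hodd : Odd H.index) (h2 : IsPGroup 2 (H ⧸ Cfsg.oddCore H)) : Group.IsSolvable G := by
  have : Fact (Nat.Prime 2) := ⟨Nat.prime_two⟩
  haveI : (Cfsg.oddCore H).Normal := Cfsg.pPrimeCore_normal 2 H
  haveI : Group.IsNilpotent (H ⧸ Cfsg.oddCore H) := h2.isNilpotent
  haveI : Group.IsSolvable (Cfsg.oddCore H) :=
    Cfsg.Agent.S0205.result (Nat.coprime_two_right.1 CfsgLib.PCore.pPrimeCore_coprime)
  haveI : Group.IsSolvable H := Group.isSolvable_of_ker_le_range (Cfsg.oddCore H).subtype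
    (QuotientGroup.mk' (Cfsg.oddCore H)) (by rw [QuotientGroup.ker_mk', Subgroup.range_subtype])
  haveI : Group.IsSolvable (G ⧸ H) := Cfsg.Agent.S0205.result (by rwa [← Subgroup.index_eq_card])
  exact Group.isSolvable_of_ker_le_range H.subtype (QuotientGroup.mk' H)
    (by rw [QuotientGroup.ker_mk', Subgroup.range_subtype])

theorem pLengthLE_of_odd_two {G : Type u} [Group G] [Finite G] (H : Subgroup G) [H.Normal]
    (hodd : Odd H.index) (h2 : IsPGroup 2 (H ⧸ Cfsg.oddCore H)) : Cfsg.PLengthLE 2 1 G := by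
  have : Fact (Nat.Prime 2) := ⟨Nat.prime_two⟩
  haveI : (Cfsg.oddCore H).Normal := Cfsg.pPrimeCore_normal 2 H
  let U0 := (Cfsg.upperPSeries 2 G 0).1
  let U1 := (Cfsg.upperPSeries 2 G 1).1
  let U2 := (Cfsg.upperPSeries 2 G 2).1
  have e1 : U1 = (Cfsg.pPrimeCore 2 (G ⧸ U0)).comap (QuotientGroup.mk' U0) := rfl
  have e2 : U2 = (Cfsg.pCore 2 (G ⧸ U1)).comap (QuotientGroup.mk' U1) := rfl
  have e3 : (Cfsg.upperPSeries 2 G 3).1 = (Cfsg.pPrimeCore 2 (G ⧸ U2)).comap (QuotientGroup.mk' U2) := rfl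
  show (Cfsg.upperPSeries 2 G 3).1 = ⊤
  have hO1 : (Cfsg.oddCore H).map H.subtype ≤ U1 := by
    rw [e1, ← Subgroup.map_le_iff_le_comap]
    haveI : ((Cfsg.oddCore H).map H.subtype).Normal := inferInstance
    exact CfsgLib.PCore.le_pPrimeCore ((inferInstance : ((Cfsg.oddCore H).map H.subtype).Normal).map _
      (QuotientGroup.mk'_surjective U0))
      (Nat.coprime_two_right.2 (Odd.of_dvd_nat (odd_map_oddCore H) (Subgroup.card_map_dvd _ _)))
  have hH2 : H ≤ U2 := by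
    rw [e2, ← Subgroup.map_le_iff_le_comap]
    refine CfsgLib.PCore.le_pCore ((inferInstance : H.Normal).map _ (QuotientGroup.mk'_surjective U1)) ?_
    let f : H →* G ⧸ U1 := (QuotientGroup.mk' U1).comp H.subtype
    have hf : Cfsg.oddCore H ≤ f.ker := fun x hx => (QuotientGroup.eq_one_iff _).2 (hO1 ⟨x, hx, rfl⟩)
    let fq := QuotientGroup.lift (Cfsg.oddCore H) f hf
    have hr : H.map (QuotientGroup.mk' U1) = fq.range := by
      ext y
      constructor
      · rintro ⟨x, hx, rfl⟩; exact ⟨QuotientGroup.mk ⟨x, hx⟩, rfl⟩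
      · rintro ⟨x, rfl⟩
        induction x using QuotientGroup.induction_on with
        | H x => exact ⟨x, x.2, rfl⟩
    rw [hr]
    exact IsPGroup.of_surjective h2 fq.rangeRestrict fq.rangeRestrict_surjective
  rw [e3, CfsgLib.PCore.pPrimeCore_eq_top_of_coprime, Subgroup.comap_top]
  rw [← Subgroup.index_eq_card]
  exact Nat.coprime_two_right.2 (hodd.of_dvd_nat (Subgroup.index_dvd_of_le hH2))

theorem center_eq_bot_of_simple {W : Type u} [Group W] [IsSimpleGroup W] (hnc : ∃ a b : W, a * b ≠ b * a) :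
    Subgroup.center W = ⊥ := by
  refine (IsSimpleGroup.eq_bot_or_eq_top_of_normal _ inferInstance).resolve_right fun e => ?_
  obtain ⟨a, b, hab⟩ := hnc
  exact hab (mem_center_iff.1 (e ▸ Subgroup.mem_top b : b ∈ Subgroup.center W) a)

theorem commutator_eq_top_of_simple {W : Type u} [Group W] [IsSimpleGroup W]
    (hnc : ∃ a b : W, a * b ≠ b * a) : commutator W = ⊤ := by
  refine (IsSimpleGroup.eq_bot_or_eq_top_of_normal _ inferInstance).resolve_left fun h => ?_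
  obtain ⟨a, b, hab⟩ := hnc
  exact hab (commutatorElement_eq_one_iff_mul_comm.1 (Subgroup.mem_bot.1
    (h ▸ Subgroup.commutator_mem_commutator (Subgroup.mem_top a) (Subgroup.mem_top b))))

/-- A central kernel over a group without centre is the centre. -/
theorem ker_eq_center {L W : Type*} [Group L] [Group W] (σ : L →* W) (hs : Function.Surjective σ)
    (hk : σ.ker ≤ Subgroup.center L) (hW : Subgroup.center W = ⊥) : σ.ker = Subgroup.center L := by
  refine le_antisymm hk fun x hx => ?_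
  refine MonoidHom.mem_ker.2 (Subgroup.mem_bot.1 (hW ▸ mem_center_iff.2 fun w => ?_))
  obtain ⟨y, rfl⟩ := hs w
  rw [← map_mul, ← map_mul, mem_center_iff.1 hx y]

/-- The derived group of a central extension of a simple group. -/
theorem stem_part {C W : Type u} [Group C] [Finite C] [Group W] [IsSimpleGroup W] (φ : C →* W)
    (hφ : Function.Surjective φ) (hk : φ.ker ≤ Subgroup.center C) (hnc : ∃ a b : W, a * b ≠ b * a) :
    Group.IsPerfect ↥(commutator C) ∧ commutator C ⊔ φ.ker = ⊤ ∧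
      Cfsg.IsStemExtension (φ.comp (commutator C).subtype) := by
  have hW := commutator_eq_top_of_simple hnc
  have hmap : (commutator C).map φ = ⊤ := by
    rw [_root_.commutator_def, Subgroup.map_commutator, Subgroup.map_top_of_surjective _ hφ,
      ← _root_.commutator_def, hW]
  haveI : φ.ker.Normal := inferInstance
  have hperf : ⁅commutator C, commutator C⁆ = commutator C := commutator_perfect hk (by
    have e := QuotientGroup.quotientKerEquivOfSurjective φ hφ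
    rw [_root_.commutator_def, ← Subgroup.map_top_of_surjective e.symm.toMonoidHom e.symm.surjective,
      ← Subgroup.map_commutator, ← _root_.commutator_def, hW])
  have hcomm : commutator ↥(commutator C) = ⊤ := by
    refine Subgroup.map_injective (commutator C).subtype_injective ?_
    rw [Subgroup.map_subtype_commutator, hperf, ← MonoidHom.range_eq_map, Subgroup.range_subtype]
  refine ⟨Group.isPerfect_def.2 hcomm, eq_top_iff.2 fun x _ => ?_, fun w => ?_,
    fun y hy => mem_center_iff.2 fun g => Subtype.ext (mem_center_iff.1 (hk hy) g), fun y _ => ?_⟩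
  · obtain ⟨l, hl, e⟩ := (hmap ▸ Subgroup.mem_top (φ x) : φ x ∈ (commutator C).map φ)
    have h1 : l⁻¹ * x ∈ φ.ker := by rw [MonoidHom.mem_ker, map_mul, map_inv, e, inv_mul_cancel]
    have h2 := Subgroup.mul_mem_sup hl h1
    rwa [mul_inv_cancel_left] at h2
  · obtain ⟨l, hl, e⟩ := (hmap ▸ Subgroup.mem_top w : w ∈ (commutator C).map φ)
    exact ⟨⟨l, hl⟩, e⟩
  · rw [hcomm]; exact Subgroup.mem_top y

/-- The alternative for the simple group of order sixty. -/
theorem sixty_case {C W : Type u} [Group C] [Finite C] [Group W] [Finite W] [IsSimpleGroup W] (φ : C →* W)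
    (hφ : Function.Surjective φ) (hk : φ.ker ≤ Subgroup.center C) (h2 : IsPGroup 2 φ.ker) (hna : NonAb C)
    (hnc : ∃ a b : W, a * b ≠ b * a) (h60 : Nat.card W = 60) :
    ∃ A L : Subgroup C, IsMulCommutative ↥A ∧ IsPGroup 2 ↥A ∧
      Nonempty (↥L ≃* Matrix.SpecialLinearGroup (Fin 2) (ZMod 5)) ∧
      (∀ a ∈ A, ∀ l ∈ L, a * l = l * a) ∧ A ⊔ L = ⊤ := by
  have : Fact (Nat.Prime 2) := ⟨Nat.prime_two⟩
  obtain ⟨hp, hsup, hσ⟩ := stem_part φ hφ hk hnc
  set σ := φ.comp (commutator C).subtype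
  have hkc := ker_eq_center σ hσ.1 hσ.2.1 (center_eq_bot_of_simple hnc)
  let e : ↥(commutator C) ⧸ Subgroup.center ↥(commutator C) ≃* W :=
    (QuotientGroup.quotientMulEquivOfEq hkc.symm).trans (QuotientGroup.quotientKerEquivOfSurjective σ hσ.1)
  haveI : IsSimpleGroup (↥(commutator C) ⧸ Subgroup.center ↥(commutator C)) := e.isSimpleGroup
  have hne : Subgroup.center ↥(commutator C) ≠ ⊥ := by
    obtain ⟨S⟩ : Nonempty (Sylow 2 C) := inferInstance
    obtain ⟨a, ha, b, hb, hab⟩ := hna S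
    intro hbot
    let V : Sylow 2 W := S.mapSurjective hφ
    have h4 : Nat.card (V : Subgroup W) = 4 := by
      rw [Sylow.card_eq_multiplicity, h60, show (60 : ℕ) = 2 ^ 2 * 15 by rfl,
        Nat.factorization_mul (by norm_num) (by norm_num), Nat.Prime.factorization_pow Nat.prime_two,
        Finsupp.add_apply, Finsupp.single_eq_same,
        Nat.factorization_eq_zero_of_not_dvd (by norm_num : ¬ 2 ∣ 15)]
      rfl
    haveI := IsPGroup.isMulCommutative_of_card_eq_prime_sq (p := 2) (G := (V : Subgroup W))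
      (h4.trans (by norm_num))
    have h1 : ⁅a, b⁆ ∈ commutator C :=
      Subgroup.commutator_mem_commutator (Subgroup.mem_top a) (Subgroup.mem_top b)
    have h2 : (⟨_, h1⟩ : commutator C) ∈ σ.ker := by
      show φ ⁅a, b⁆ = 1
      rw [map_commutatorElement, commutatorElement_eq_one_iff_mul_comm]
      exact congrArg Subtype.val
        (mul_comm' (⟨φ a, ⟨a, ha, rfl⟩⟩ : (V : Subgroup W)) ⟨φ b, ⟨b, hb, rfl⟩⟩)
    rw [hkc, hbot, Subgroup.mem_bot] at h2
    exact hab (commutatorElement_eq_one_iff_mul_comm.1 (congrArg Subtype.val h2))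
  refine ⟨φ.ker, commutator C, ⟨⟨fun a b => Subtype.ext (mem_center_iff.1 (hk b.2) a)⟩⟩, h2,
    sl25_of_cover hp (by rw [Nat.card_congr e.toEquiv, h60]) hne,
    fun a ha l _ => (mem_center_iff.1 (hk ha) l).symm, by rwa [sup_comm]⟩

/-- Elements of a central subgroup over a 2-group split as 2-part and part in the odd core. -/
theorem ker_le_sup {C : Type u} [Group C] [Finite C] {N : Subgroup C} (hN : Odd (Nat.card N))
    {Z : Subgroup C} (hZ : Z ≤ Subgroup.center C) (h2 : ∀ x ∈ Z, ∃ k : ℕ, x ^ 2 ^ k ∈ N) :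
    Z ≤ Cfsg.pCore 2 C ⊔ N := by
  have : Fact (Nat.Prime 2) := ⟨Nat.prime_two⟩
  intro x hx
  obtain ⟨k, hk⟩ := h2 x hx
  set m := Nat.card N
  have hm : (x ^ m) ^ 2 ^ k = 1 := by
    rw [← pow_mul, mul_comm, pow_mul]
    exact congrArg Subtype.val (pow_card_eq_one' (x := (⟨_, hk⟩ : N)))
  have hA : zpowers (x ^ m) ≤ Cfsg.pCore 2 C := by
    refine CfsgLib.PCore.le_pCore ⟨fun y hy g => ?_⟩ fun w => ?_
    · rwa [mem_center_iff.1 (zpowers_le.2 (pow_mem (hZ hx) m) hy) g, mul_inv_cancel_right]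
    · obtain ⟨w, i, rfl⟩ := w
      exact ⟨k, Subtype.ext (by
        show ((x ^ m) ^ i) ^ 2 ^ k = 1
        rw [← zpow_natCast, ← zpow_mul, mul_comm, zpow_mul, zpow_natCast, hm, one_zpow])⟩
  have hb := Nat.gcd_eq_gcd_ab m (2 ^ k)
  rw [(Nat.Coprime.pow_right k (Nat.coprime_two_right.2 hN) : Nat.Coprime m (2 ^ k))] at hb
  have h1 : (x : C) = (x ^ m) ^ Nat.gcdA m (2 ^ k) * (x ^ 2 ^ k) ^ Nat.gcdB m (2 ^ k) := by
    rw [← zpow_natCast x m, ← zpow_natCast x (2 ^ k), ← zpow_mul, ← zpow_mul, ← zpow_add, ← hb]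
    simp
  rw [h1]
  exact Subgroup.mul_mem_sup (hA (zpow_mem (mem_zpowers _) _)) (zpow_mem hk _)

/-- The alternatives over a simple group of Bender type other than the one of order sixty. -/
theorem big_case {C W : Type u} [Group C] [Finite C] [Group W] [Finite W] [IsSimpleGroup W]
    (hCI : CI C) (hna : NonAb C) (hg : Gen C) (hO : Cfsg.oddCore W = ⊥) (φ : C →* W)
    (hφ : Function.Surjective φ) (hnc : ∃ a b : W, a * b ≠ b * a) (hB : IsBenderType W)
    
    (hker : ∀ x ∈ φ.ker, (∃ k : ℕ, x ^ 2 ^ k ∈ Cfsg.oddCore C) ∧ ∀ g : C, ⁅g, x⁆ ∈ Cfsg.oddCore C)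
    (hnaC : ∀ {Z : Subgroup C} [Z.Normal], Z ≤ φ.ker → φ.ker ≤ Z → Nonempty (C ⧸ Z ≃* W))
    (hA : Cfsg.pCore 2 C ≤ φ.ker) (hkerc : NonAb W) :
    ∃ A L : Subgroup C, IsMulCommutative ↥A ∧ IsPGroup 2 ↥A ∧ (∀ a ∈ A, ∀ l ∈ L, a * l = l * a) ∧
      A ⊔ L = ⊤ ∧
      ((A ⊓ L = ⊥ ∧
          ((∃ (m : ℕ) (F : Type) (_ : Field F) (_ : Fintype F), 1 ≤ m ∧ Fintype.card F = 2 ^ (2 * m + 1) ∧
              Nonempty (↥L ≃* ↥(Cfsg.Lie.Sz F (2 ^ (m + 1))))) ∨
            (∃ (n : ℕ) (F : Type) (_ : Field F) (_ : Fintype F), 2 ≤ n ∧ Fintype.card F = 4 ^ n ∧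
              (Nonempty (↥L ≃* Cfsg.PSU 3 F (2 ^ n)) ∨ Nonempty (↥L ≃* ↥(Cfsg.SU 3 F (2 ^ n))))))) ∨
        (Group.IsPerfect ↥L ∧ ∃ (F : Type) (_ : Field F) (_ : Fintype F) (σ : ↥L →* ↥(Cfsg.Lie.Sz F 4)),
          Fintype.card F = 8 ∧ Function.Surjective σ ∧ σ.ker ≤ Subgroup.center ↥L ∧ σ.ker ≠ ⊥)) := by
  have : Fact (Nat.Prime 2) := ⟨Nat.prime_two⟩
  have hWc := center_eq_bot_of_simple hnc
  have hW := commutator_eq_top_of_simple hnc
  haveI : (Cfsg.oddCore C).Normal := Cfsg.pPrimeCore_normal 2 C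
  have hOodd : Odd (Nat.card (Cfsg.oddCore C)) :=
    Nat.coprime_two_right.1 CfsgLib.PCore.pPrimeCore_coprime
  -- the odd core is central
  have hOc : Cfsg.oddCore C ≤ Subgroup.center C := by
    refine odd_normal_le_center hCI hna hg _ hOodd fun S c hc => ?_
    obtain ⟨e⟩ := hnaC (Z := φ.ker) le_rfl le_rfl
    have hCW : CI W := by
      intro U V hUV
      have h := ci_quotient hCI φ.ker (U.mapSurjective (f := e.symm.toMonoidHom) e.symm.surjective)
        (V.mapSurjective (f := e.symm.toMonoidHom) e.symm.surjective) (fun h => hUV (Sylow.ext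
          (Subgroup.map_injective e.symm.injective (congrArg (fun X : Sylow 2 (C ⧸ φ.ker) =>
            (X : Subgroup (C ⧸ φ.ker))) h))))
      obtain ⟨R, hR⟩ := h
      refine ⟨R.mapSurjective (f := e.toMonoidHom) e.surjective, fun x hx => ?_⟩
      obtain ⟨w, hw, hwx⟩ := hR ⟨⟨x, hx.1, rfl⟩, ⟨x, hx.2, rfl⟩⟩
      refine ⟨⟨x, ⟨w, w.2, by
        show e (w : C ⧸ φ.ker) = x
        rw [show (w : C ⧸ φ.ker) = e.symm x from hwx]; exact e.apply_symm_apply x⟩⟩,
        mem_center_iff.2 ?_, rfl⟩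
      rintro ⟨_, r, hr, rfl⟩
      refine Subtype.ext ?_
      show e r * x = x * e r
      have h2 : r * e.symm x = e.symm x * r := by
        rw [← show (w : C ⧸ φ.ker) = e.symm x from hwx]
        exact congrArg Subtype.val (mem_center_iff.1 hw ⟨r, hr⟩)
      have h3 := congrArg e h2
      rwa [map_mul, map_mul, e.apply_symm_apply] at h3
    refine derived_not_cyclic hCW hkerc hO hWc (S.mapSurjective hφ) (φ c) ?_
    rw [Sylow.coe_mapSurjective, ← Subgroup.map_commutator, ← MonoidHom.map_zpowers]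
    exact Subgroup.map_mono hc
  -- the kernel is central
  have hk : φ.ker ≤ Subgroup.center C := fun x hx => mem_center_iff.2 fun g => by
    obtain ⟨⟨k, hk⟩, hcom⟩ := hker x hx
    have hpow : ∀ j : ℕ, ⁅g, x ^ j⁆ = ⁅g, x⁆ ^ j := fun j => by
      induction j with
      | zero => simp [commutatorElement_def]
      | succ j ih =>
        rw [pow_succ (⁅g, x⁆), ← ih, pow_succ x]
        have hc := mem_center_iff.1 (hOc (hcom g)) (x ^ j)
        calc ⁅g, x ^ j * x⁆ = ⁅g, x ^ j⁆ * (x ^ j * ⁅g, x⁆ * (x ^ j)⁻¹) := by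
              simp only [commutatorElement_def]; group
          _ = ⁅g, x ^ j⁆ * ⁅g, x⁆ := by rw [hc, mul_inv_cancel_right]
    have h1 : ⁅g, x⁆ ^ 2 ^ k = 1 := by
      rw [← hpow, commutatorElement_eq_one_iff_mul_comm]
      exact mem_center_iff.1 (hOc hk) g
    have h2 : ⁅g, x⁆ ^ Nat.card (Cfsg.oddCore C) = 1 :=
      congrArg Subtype.val (pow_card_eq_one' (x := (⟨_, hcom g⟩ : Cfsg.oddCore C)))
    have h3 := pow_gcd_eq_one.2 ⟨h1, h2⟩
    rw [Nat.Coprime.pow_left _ (Nat.coprime_two_left.2 hOodd), pow_one] at h3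
    exact commutatorElement_eq_one_iff_mul_comm.1 h3
  obtain ⟨hp, hsup, hσ⟩ := stem_part φ hφ hk hnc
  set L := commutator C
  -- the odd core lies in the derived group
  have hOL : Cfsg.oddCore C ≤ L := by
    let ab : C →* C ⧸ L := QuotientGroup.mk' L
    have habc : ∀ a b : C ⧸ L, a * b = b * a := by
      intro a b
      obtain ⟨a, rfl⟩ := QuotientGroup.mk'_surjective L a
      obtain ⟨b, rfl⟩ := QuotientGroup.mk'_surjective L b
      rw [← commutatorElement_eq_one_iff_mul_comm, ← map_commutatorElement]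
      exact (QuotientGroup.eq_one_iff _).2
        (Subgroup.commutator_mem_commutator (Subgroup.mem_top a) (Subgroup.mem_top b))
    intro o ho
    obtain ⟨S⟩ : Nonempty (Sylow 2 (C ⧸ L)) := inferInstance
    have htop : (S : Subgroup (C ⧸ L)) = ⊤ := by
      refine top_le_iff.1 ((gen_quotient hg L).symm.le.trans (iSup_le fun U => ?_))
      obtain ⟨x, hx⟩ := MulAction.exists_smul_eq (C ⧸ L) S U
      intro y hy
      rw [← hx, mem_smul_iff, habc x⁻¹ y, inv_mul_cancel_right] at hy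
      exact hy
    obtain ⟨k, hk'⟩ := mem_two_pow (R := S) (x := ab o) (htop ▸ Subgroup.mem_top _)
    have h2 : ab o ^ Nat.card (Cfsg.oddCore C) = 1 := by
      rw [← map_pow, show o ^ Nat.card (Cfsg.oddCore C) = 1 from
        congrArg Subtype.val (pow_card_eq_one' (x := (⟨o, ho⟩ : Cfsg.oddCore C))), map_one]
    have h3 := pow_gcd_eq_one.2 ⟨hk', h2⟩
    rw [Nat.Coprime.pow_left _ (Nat.coprime_two_left.2 hOodd), pow_one] at h3
    exact (QuotientGroup.eq_one_iff o).1 h3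
  refine ⟨Cfsg.pCore 2 C, L, ⟨⟨fun a b => Subtype.ext (mem_center_iff.1 (hk (hA b.2)) a)⟩⟩,
    CfsgLib.PCore.pCore_isPGroup, fun a ha l _ => (mem_center_iff.1 (hk (hA ha)) l).symm, ?_, ?_⟩
  · refine top_le_iff.1 (hsup.ge.trans (sup_le le_sup_right ?_))
    exact (ker_le_sup hOodd hk fun x hx => (hker x hx).1).trans (sup_le le_sup_left (hOL.trans le_sup_right))
  set σ := φ.comp L.subtype with hσdef
  have hinf : ∀ x ∈ Cfsg.pCore 2 C ⊓ L, x ∈ φ.ker ∧ ∃ k : ℕ, x ^ 2 ^ k = 1 := fun x hx => by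
    obtain ⟨k, hk'⟩ := (CfsgLib.PCore.pCore_isPGroup (p := 2) (G := C)) ⟨x, hx.1⟩
    exact ⟨hA hx.1, k, congrArg Subtype.val hk'⟩
  have hbot : σ.ker = ⊥ → Cfsg.pCore 2 C ⊓ L = ⊥ := fun h => eq_bot_iff.2 fun x hx => by
    have h1 : (⟨x, hx.2⟩ : L) ∈ σ.ker := (hinf x hx).1
    rw [h, Subgroup.mem_bot] at h1
    exact Subgroup.mem_bot.2 (congrArg Subtype.val h1)
  have hmult : ∀ n : ℕ, Odd n → Cfsg.HasCyclicSchurMultiplier W n → Cfsg.pCore 2 C ⊓ L = ⊥ :=
    fun n hn hM => eq_bot_iff.2 fun x hx => by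
      obtain ⟨hxk, k, hk'⟩ := hinf x hx
      obtain ⟨e⟩ := hnaC (Z := φ.ker) le_rfl le_rfl
      refine Subgroup.mem_bot.2 (eq_one_of_multiplier hk ?_ hn
        (CfsgLib.OmegaSevenMult.hasCyclicSchurMultiplier_congr e.symm hM) hx.2 hxk hk')
      rw [_root_.commutator_def, ← Subgroup.map_top_of_surjective e.symm.toMonoidHom e.symm.surjective,
        ← Subgroup.map_commutator, ← _root_.commutator_def, hW]
  rcases hB with ⟨F, i1, i2, ⟨n, hn, hF⟩, ⟨f⟩⟩ | ⟨F, i1, i2, m, hm, hF, ⟨f⟩⟩ |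
    ⟨F, i1, i2, n, hn, hF, ⟨f⟩⟩
  · exfalso
    haveI : CharP F 2 := charP_of_card_eq_prime_pow hF
    obtain ⟨g⟩ := nonempty_sl_equiv_psl F
    obtain ⟨V⟩ : Nonempty (Sylow 2 W) := inferInstance
    obtain ⟨a, ha, b, hb, hab⟩ := hkerc V
    exact hab (sl_sylow_comm (by omega) hF (f.trans g) V a ha b hb)
  · let τ := f.toMonoidHom.comp σ
    have hτs : Function.Surjective τ := f.surjective.comp hσ.1
    have hτk : τ.ker = σ.ker := MonoidHom.ker_mulEquiv_comp σ f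
    by_cases hb : σ.ker = ⊥
    · exact Or.inl ⟨hbot hb, Or.inl ⟨m, F, i1, i2, hm, hF,
        ⟨MulEquiv.ofBijective τ ⟨(MonoidHom.ker_eq_bot_iff τ).1 (hτk.trans hb), hτs⟩⟩⟩⟩
    · rcases eq_or_ne m 1 with rfl | hm1
      · exact Or.inr ⟨hp, F, i1, i2, τ, hF, hτs, hτk.le.trans hσ.2.1, hτk ▸ hb⟩
      · exfalso
        have hM := CfsgLib.OmegaSevenMult.hasCyclicSchurMultiplier_congr f.symm
          (Cfsg.Agent.S2111.result (F := F) (m := m) (by omega) hF)
        obtain ⟨p, hp'⟩ := hM.2 L σ hσ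
        refine hb (Subgroup.eq_bot_of_card_le _ ((Nat.card_le_card_of_surjective p hp').trans ?_))
        rw [Nat.card_congr Multiplicative.toAdd, Nat.card_zmod]
  · have h32 : ¬((3 : ℕ) = 3 ∧ 2 ^ n = 2) := fun h => by
      have : 2 ^ 2 ≤ 2 ^ n := Nat.pow_le_pow_right (by norm_num) hn
      omega
    have hM := CfsgLib.OmegaSevenMult.hasCyclicSchurMultiplier_congr f.symm
      (Cfsg.Agent.S2089.result (F := F) 3 (2 ^ n) hF le_rfl h32 (by simp))
    have hAL := hmult _ (Odd.of_dvd_nat (by decide) (Nat.gcd_dvd_left _ _)) hM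
    refine Or.inl ⟨hAL, Or.inr ⟨n, F, i1, i2, hn, by rw [hF, ← pow_mul, mul_comm, pow_mul]; rfl, ?_⟩⟩
    let τ := f.toMonoidHom.comp σ
    have hτs : Function.Surjective τ := f.surjective.comp hσ.1
    have hτk : τ.ker = σ.ker := MonoidHom.ker_mulEquiv_comp σ f
    by_cases hb : σ.ker = ⊥
    · exact Or.inl ⟨MulEquiv.ofBijective τ ⟨(MonoidHom.ker_eq_bot_iff τ).1 (hτk.trans hb), hτs⟩⟩
    · exact Or.inr (su_of_cover hn hF τ (CfsgLib.OmegaSevenMult.stem_comp σ hσ f) (hτk ▸ hb))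

/-- **Structure theorem** (non-abelian Sylow 2-subgroups). -/
theorem structure_theorem (hR : RankOneClass.{u}) {G : Type u} [Group G] [Finite G] (hCI : CI G)
    (hna : NonAb G) :
    (Group.IsSolvable G ∧ Cfsg.PLengthLE 2 1 G) ∨
    (∃ (N M : Subgroup G) (_ : N.Normal) (_ : M.Normal) (_ : (N.subgroupOf M).Normal), N < M ∧ Odd (Nat.card ↥N) ∧ Odd M.index ∧
      ∃ A L : Subgroup (↥M ⧸ N.subgroupOf M), IsMulCommutative ↥A ∧ IsPGroup 2 ↥A ∧
        Nonempty (↥L ≃* Matrix.SpecialLinearGroup (Fin 2) (ZMod 5)) ∧ (∀ a ∈ A, ∀ l ∈ L, a * l = l * a) ∧ A ⊔ L = ⊤) ∨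
    (∃ (M : Subgroup G), M.Normal ∧ Odd M.index ∧ ∃ A L : Subgroup G, IsMulCommutative ↥A ∧ IsPGroup 2 ↥A ∧
      ((Cfsg.IsInternalDirectProduct A L M ∧
          ((∃ (m : ℕ) (F : Type) (_ : Field F) (_ : Fintype F), 1 ≤ m ∧ Fintype.card F = 2 ^ (2 * m + 1) ∧
              Nonempty (↥L ≃* ↥(Cfsg.Lie.Sz F (2 ^ (m + 1))))) ∨
            (∃ (n : ℕ) (F : Type) (_ : Field F) (_ : Fintype F), 2 ≤ n ∧ Fintype.card F = 4 ^ n ∧
              (Nonempty (↥L ≃* Cfsg.PSU 3 F (2 ^ n)) ∨ Nonempty (↥L ≃* ↥(Cfsg.SU 3 F (2 ^ n))))))) ∨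
        (A ≤ M ∧ L ≤ M ∧ (∀ a ∈ A, ∀ l ∈ L, a * l = l * a) ∧ A ⊔ L = M ∧ Group.IsPerfect ↥L ∧
          Subgroup.center ↥L ≠ ⊥ ∧
          ∃ (F : Type) (_ : Field F) (_ : Fintype F), Fintype.card F = 8 ∧
            Nonempty (↥L ⧸ Subgroup.center ↥L ≃* ↥(Cfsg.Lie.Sz F 4))))) := by
  have : Fact (Nat.Prime 2) := ⟨Nat.prime_two⟩
  obtain ⟨H, hH⟩ : ∃ H : Subgroup G,
      H = ⨆ R : {R : Sylow 2 G // True}, ((R : Sylow 2 G) : Subgroup G) := ⟨_, rfl⟩
  have hUH : ∀ U : Sylow 2 G, (U : Subgroup G) ≤ H := fun U =>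
    hH ▸ le_iSup (fun R : {R : Sylow 2 G // True} => ((R : Sylow 2 G) : Subgroup G)) ⟨U, trivial⟩
  haveI hHn : H.Normal := by
    refine Subgroup.normalizer_eq_top_iff.1 (eq_top_iff.2 fun g _ => Subgroup.mem_normalizer_iff.2 ?_)
    have hcl : ∀ (g x : G), x ∈ H → g * x * g⁻¹ ∈ H := fun g x hx => by
      have h1 : H.map (MulAut.conj g).toMonoidHom ≤ H := by
        conv_lhs => rw [hH, Subgroup.map_iSup]
        refine iSup_le fun U => le_trans (le_of_eq ?_) (hUH (g • (U : Sylow 2 G)))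
        rw [Sylow.coe_subgroup_smul]; rfl
      exact h1 ⟨x, hx, rfl⟩
    exact fun x => ⟨hcl g x, fun h => by simpa [mul_assoc] using hcl g⁻¹ _ h⟩
  have hodd : Odd H.index := by
    obtain ⟨U⟩ : Nonempty (Sylow 2 G) := inferInstance
    refine Nat.not_even_iff_odd.1 fun he => U.not_dvd_index ?_
    exact (even_iff_two_dvd.1 he).trans (Subgroup.index_dvd_of_le (hUH U))
  obtain ⟨S₁⟩ : Nonempty (Sylow 2 G) := inferInstance
  have hgH : Gen H := hH ▸ gen_iSup (fun _ : Sylow 2 G => True)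
  have hCIH : CI H := ci_subgroup hCI H S₁ (hUH S₁)
  have hnaH : NonAb H := na_subgroup hna (hUH S₁)
  haveI : (Cfsg.oddCore H).Normal := Cfsg.pPrimeCore_normal 2 H
  have hnaQ : NonAb (H ⧸ Cfsg.oddCore H) := fun U => by
    obtain ⟨U', rfl⟩ := Sylow.mapSurjective_surjective (QuotientGroup.mk'_surjective (Cfsg.oddCore H)) 2 U
    obtain ⟨a, ha, b, hb, hab⟩ := hnaH U'
    refine ⟨_, ⟨a, ha, rfl⟩, _, ⟨b, hb, rfl⟩, fun h => hab ?_⟩
    have h1 : (a * b) * (b * a)⁻¹ ∈ (U' : Subgroup H) ⊓ Cfsg.oddCore H := by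
      refine Subgroup.mem_inf.2 ⟨mul_mem (mul_mem ha hb) (inv_mem (mul_mem hb ha)),
        (QuotientGroup.eq_one_iff _).1 ?_⟩
      show QuotientGroup.mk' (Cfsg.oddCore H) (a * b * (b * a)⁻¹) = 1
      rw [map_mul, map_inv, map_mul, map_mul, h, mul_inv_cancel]
    rw [CfsgLib.PCore.inf_eq_bot_of_isPGroup_coprime U'.2 CfsgLib.PCore.pPrimeCore_coprime,
      Subgroup.mem_bot, mul_inv_eq_one] at h1
    exact h1
  by_cases hsing : ∀ U V : Sylow 2 (H ⧸ Cfsg.oddCore H), U = V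
  · left
    obtain ⟨U⟩ : Nonempty (Sylow 2 (H ⧸ Cfsg.oddCore H)) := inferInstance
    have h2 : IsPGroup 2 (H ⧸ Cfsg.oddCore H) := by
      have hle : (⊤ : Subgroup (H ⧸ Cfsg.oddCore H)) ≤ U :=
        (gen_quotient hgH (Cfsg.oddCore H)).symm.le.trans (iSup_le fun V => (hsing V U).symm ▸ le_rfl)
      exact IsPGroup.of_equiv (U.2.to_le hle) Subgroup.topEquiv
    exact ⟨isSolvable_of_odd_two H hodd h2, pLengthLE_of_odd_two H hodd h2⟩
  push Not at hsing
  obtain ⟨S, T, hne⟩ := hsing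
  let π1 := QuotientGroup.mk' (Cfsg.oddCore H)
  have hCI1 := ci_quotient hCIH (Cfsg.oddCore H)
  have hg1 := gen_quotient hgH (Cfsg.oddCore H)
  have hO1 : Cfsg.oddCore (H ⧸ Cfsg.oddCore H) = ⊥ := CfsgLib.PCore.pPrimeCore_quotient_pPrimeCore
  obtain ⟨Z, hZ⟩ : ∃ Z, Z = Cfsg.pCore 2 (H ⧸ Cfsg.oddCore H) := ⟨_, rfl⟩
  haveI : Z.Normal := hZ ▸ Cfsg.pCore_normal 2 _
  have hZc : Z ≤ Subgroup.center _ := hZ ▸ pCore_le_center hCI1 hg1 hne
  have hZ2 : IsPGroup 2 Z := hZ ▸ CfsgLib.PCore.pCore_isPGroup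
  let π2 := QuotientGroup.mk' Z
  have hO2 : Cfsg.oddCore ((H ⧸ Cfsg.oddCore H) ⧸ Z) = ⊥ :=
    oddCore_quotient_eq_bot Z hZc (hO1 ▸ bot_le)
  have hP2 : Cfsg.pCore 2 ((H ⧸ Cfsg.oddCore H) ⧸ Z) = ⊥ := by
    subst hZ; exact CfsgLib.PCore.pCore_quotient_pCore
  have hlift : ∀ (U : Sylow 2 (H ⧸ Cfsg.oddCore H)) (x : H ⧸ Cfsg.oddCore H),
      π2 x ∈ (U.mapSurjective (QuotientGroup.mk'_surjective Z) : Subgroup _) → x ∈ (U : Subgroup _) := by
    intro U x hx
    obtain ⟨u, hu, e⟩ := hx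
    have := mul_mem hu ((hZ ▸ CfsgLib.PCore.pCore_le_sylow U : Z ≤ (U : Subgroup _)) (QuotientGroup.eq.1 e))
    rwa [mul_inv_cancel_left] at this
  have hti : TI ((H ⧸ Cfsg.oddCore H) ⧸ Z) := by
    intro U V hUV
    obtain ⟨U', rfl⟩ := Sylow.mapSurjective_surjective (QuotientGroup.mk'_surjective Z) 2 U
    obtain ⟨V', rfl⟩ := Sylow.mapSurjective_surjective (QuotientGroup.mk'_surjective Z) 2 V
    refine eq_bot_iff.2 fun y hy => ?_
    obtain ⟨x, rfl⟩ := QuotientGroup.mk'_surjective Z y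
    have h1 := inter_le_pCore hCI1 hnaQ hO1 hR (fun e => hUV (by rw [e]))
      (⟨hlift U' x hy.1, hlift V' x hy.2⟩ : x ∈ (U' : Subgroup _) ⊓ (V' : Subgroup _))
    rw [← hZ] at h1
    exact Subgroup.mem_bot.2 ((QuotientGroup.eq_one_iff x).2 h1)
  have hne2 : (S.mapSurjective (QuotientGroup.mk'_surjective Z)) ≠
      T.mapSurjective (QuotientGroup.mk'_surjective Z) := fun e => hne (Sylow.ext ((S.3 T.2 fun s hs => by
    have h1 : π2 s ∈ ((S.mapSurjective (QuotientGroup.mk'_surjective Z) : Sylow 2 _) : Subgroup _) :=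
      ⟨s, hs, rfl⟩
    rw [e] at h1
    exact hlift T s h1).symm))
  obtain ⟨hs, hB, hnc, -⟩ := simple_of_stronglyEmbedded hR hO2 hP2 (gen_quotient hg1 Z)
    (stronglyEmbedded_of_ti hti hne2)
  haveI := hs
  by_cases h60 : Nat.card ((H ⧸ Cfsg.oddCore H) ⧸ Z) = 60
  · right; left
    obtain ⟨A, L, hAc, hA2, ⟨eL⟩, hcomm, hsup⟩ := sixty_case π2 (QuotientGroup.mk'_surjective Z)
      (by rw [QuotientGroup.ker_mk']; exact hZc) (by rw [QuotientGroup.ker_mk']; exact hZ2) hnaQ hnc h60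
    obtain ⟨N, hN⟩ : ∃ N, N = (Cfsg.oddCore H).map H.subtype := ⟨_, rfl⟩
    haveI hNn : N.Normal := hN ▸ inferInstance
    have hNO : N.subgroupOf H = Cfsg.oddCore H := by
      rw [hN]; exact Subgroup.comap_map_eq_self_of_injective H.subtype_injective _
    let e : H ⧸ Cfsg.oddCore H ≃* H ⧸ N.subgroupOf H := QuotientGroup.quotientMulEquivOfEq hNO.symm
    haveI := hAc
    refine ⟨N, H, hNn, hHn, inferInstance, ?_, hN ▸ odd_map_oddCore H, hodd,
      A.map e.toMonoidHom, L.map e.toMonoidHom, inferInstance, hA2.map _,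
      ⟨(L.equivMapOfInjective e.toMonoidHom e.injective).symm.trans eL⟩, ?_, ?_⟩
    · refine lt_of_le_of_ne (hN ▸ Subgroup.map_subtype_le _) fun e0 => ?_
      obtain ⟨a, ha, b, hb, hab⟩ := hnaQ S
      obtain ⟨a, rfl⟩ := QuotientGroup.mk_surjective a
      obtain ⟨b, rfl⟩ := QuotientGroup.mk_surjective b
      have hall : ∀ x : H, (x : H ⧸ Cfsg.oddCore H) = 1 := fun x =>
        (QuotientGroup.eq_one_iff x).2 (hNO ▸ (e0.symm ▸ x.2 : (x : G) ∈ N))
      exact hab (by rw [hall a, hall b])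
    · rintro _ ⟨a, ha, rfl⟩ _ ⟨l, hl, rfl⟩
      rw [← map_mul, ← map_mul, hcomm a ha l hl]
    · rw [← Subgroup.map_sup, hsup, Subgroup.map_top_of_surjective _ e.surjective]
  right; right
  let φ := π2.comp π1
  have hφ : Function.Surjective φ :=
    (QuotientGroup.mk'_surjective Z).comp (QuotientGroup.mk'_surjective _)
  have hkerm : ∀ x, x ∈ φ.ker ↔ π1 x ∈ Z := fun x => by
    show π2 (π1 x) = 1 ↔ _
    exact QuotientGroup.eq_one_iff _
  have hA : Cfsg.pCore 2 H ≤ φ.ker := fun x hx =>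
    (hkerm x).2 (hZ ▸ CfsgLib.PCore.map_pCore_le π1 (QuotientGroup.mk'_surjective _) ⟨x, hx, rfl⟩)
  have hker : ∀ x ∈ φ.ker, (∃ k : ℕ, x ^ 2 ^ k ∈ Cfsg.oddCore H) ∧ ∀ g : H, ⁅g, x⁆ ∈ Cfsg.oddCore H := by
    intro x hx
    obtain ⟨k, hk⟩ := hZ2 ⟨_, (hkerm x).1 hx⟩
    refine ⟨⟨k, (QuotientGroup.eq_one_iff _).1 ?_⟩, fun g => (QuotientGroup.eq_one_iff _).1 ?_⟩
    · show π1 (x ^ 2 ^ k) = 1
      rw [map_pow]; exact congrArg Subtype.val hk
    · show π1 ⁅g, x⁆ = 1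
      rw [map_commutatorElement, commutatorElement_eq_one_iff_mul_comm]
      exact mem_center_iff.1 (hZc ((hkerm x).1 hx)) _
  have hnaW : NonAb ((H ⧸ Cfsg.oddCore H) ⧸ Z) := nonab_quotient hnaQ hZc (commutator_eq_top_of_simple hnc)
    ((bender_cases hB).resolve_left h60)
  obtain ⟨A, L, hAc, hA2, hcomm, hsup, halt⟩ := big_case hCIH hnaH hgH hO2 φ hφ hnc hB hker
    (fun {Z'} _ h1 h2 => ⟨(QuotientGroup.quotientMulEquivOfEq (le_antisymm h1 h2)).trans
      (QuotientGroup.quotientKerEquivOfSurjective φ hφ)⟩) hA hnaW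
  haveI := hAc
  let eL := L.equivMapOfInjective H.subtype H.subtype_injective
  refine ⟨H, hHn, hodd, A.map H.subtype, L.map H.subtype, inferInstance, hA2.map _, ?_⟩
  have hcomm' : ∀ a ∈ A.map H.subtype, ∀ l ∈ L.map H.subtype, a * l = l * a := by
    rintro _ ⟨a, ha, rfl⟩ _ ⟨l, hl, rfl⟩
    rw [← map_mul, ← map_mul, hcomm a ha l hl]
  have hsup' : A.map H.subtype ⊔ L.map H.subtype = H := by
    rw [← Subgroup.map_sup, hsup, ← MonoidHom.range_eq_map, Subgroup.range_subtype]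
  rcases halt with ⟨hinf, h⟩ | ⟨hp, F, i1, i2, σ, hF, hσs, hσk, hσb⟩
  · left
    refine ⟨⟨Subgroup.map_subtype_le _, Subgroup.map_subtype_le _, hcomm', ?_, hsup'⟩, ?_⟩
    · rw [← Subgroup.map_inf _ _ _ H.subtype_injective, hinf, Subgroup.map_bot]
    · rcases h with ⟨m, F, j1, j2, hm, hF, ⟨e⟩⟩ | ⟨n, F, j1, j2, hn, hF, e⟩
      · exact Or.inl ⟨m, F, j1, j2, hm, hF, ⟨eL.symm.trans e⟩⟩
      · exact Or.inr ⟨n, F, j1, j2, hn, hF, e.imp (fun ⟨e⟩ => ⟨eL.symm.trans e⟩) (fun ⟨e⟩ => ⟨eL.symm.trans e⟩)⟩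
  · right
    obtain ⟨hchar, ⟨P⟩⟩ := CfsgLib.SuzukiGroup.exists_params (F := F) (m := 1) hF
    haveI := hchar
    let P : CfsgLib.SuzukiGroup.Params F 4 := P
    haveI : IsSimpleGroup ↥(Cfsg.Lie.Sz F 4) := CfsgLib.SuzukiGroup.isSimple P (by omega)
    have hz : Subgroup.center ↥(Cfsg.Lie.Sz F 4) = ⊥ := by
      refine center_eq_bot_of_simple ?_
      obtain ⟨V⟩ : Nonempty (Sylow 2 ↥(Cfsg.Lie.Sz F 4)) := inferInstance
      by_contra hcon
      push Not at hcon
      obtain ⟨-, -, -, Cs, hCs, hcs⟩ := sz_eight hF (MulEquiv.refl _) V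
      have hsub : Cs ⊆ {1} := fun w hw => by
        obtain ⟨a, -, b, -, rfl⟩ := hcs w hw
        exact commutatorElement_eq_one_iff_mul_comm.2 (hcon a b)
      have := Nat.card_mono (Set.toFinite _) hsub
      rw [Nat.card_unique (α := ({1} : Set ↥(Cfsg.Lie.Sz F 4)))] at this
      omega
    let τ := σ.comp eL.symm.toMonoidHom
    have hτs : Function.Surjective τ := hσs.comp eL.symm.surjective
    have hτc : τ.ker ≤ Subgroup.center _ := fun x hx => mem_center_iff.2 fun y =>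
      eL.symm.injective (by rw [map_mul, map_mul]; exact mem_center_iff.1 (hσk hx) _)
    have hτk := ker_eq_center τ hτs hτc hz
    refine ⟨Subgroup.map_subtype_le _, Subgroup.map_subtype_le _, hcomm', hsup', ?_, fun h => hσb ?_,
      F, i1, i2, hF,
      ⟨(QuotientGroup.quotientMulEquivOfEq hτk.symm).trans (QuotientGroup.quotientKerEquivOfSurjective τ hτs)⟩⟩
    · rw [Group.isPerfect_def, _root_.commutator_def, ← Subgroup.map_top_of_surjective eL.toMonoidHom eL.surjective,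
        ← Subgroup.map_commutator, ← _root_.commutator_def, Group.isPerfect_def.1 hp]
    · refine eq_bot_iff.2 fun x hx => ?_
      have h1 : eL x ∈ τ.ker := by
        show σ (eL.symm (eL x)) = 1
        rw [eL.symm_apply_apply]; exact hx
      rw [hτk, h, Subgroup.mem_bot] at h1
      exact Subgroup.mem_bot.2 (eL.injective (h1.trans eL.map_one.symm))

end CfsgLib.CentralSylow
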