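import Cfsg.Agent.Lib.CentralSylow.Pieces
import Cfsg.Agent.Lib.OddOrder.PuigSeries

/-!
The main theorem on central Sylow 2-intersections: without odd core, two distinct Sylow 2-subgroups meet in
`O_2`.
-/

set_option autoImplicit false
set_option linter.unusedSectionVars false
set_option linter.style.haveILetI false

namespace CfsgLib.CentralSylow

open Subgroup Pointwise CfsgLib.BenderQ
open scoped commutatorElement

universe u

variable {G : Type u} [Group G] [Finite G]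

/-- A Sylow subgroup with a central subgroup of index four has no further central elements. -/
theorem mem_of_card_four (hna : NonAb G) {S : Sylow 2 G} {J : Subgroup G} (hJS : J ≤ (S : Subgroup G))
    (hJc : ∀ j ∈ J, CentralIn S j) (h4 : Nat.card (S : Subgroup G) = 4 * Nat.card J) {z : G}
    (hzS : z ∈ (S : Subgroup G)) (hz : CentralIn S z) : z ∈ J := by
  have : Fact (Nat.Prime 2) := ⟨Nat.prime_two⟩
  let J' : Subgroup (S : Subgroup G) := J.subgroupOf (S : Subgroup G)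
  set Zc := center (S : Subgroup G)
  have hle : J' ≤ Zc := fun j hj => mem_center_iff.2 fun s => Subtype.ext (hJc j hj s s.2)
  by_contra hzJ
  have hzc : (⟨z, hzS⟩ : (S : Subgroup G)) ∈ Zc := mem_center_iff.2 fun s => Subtype.ext (hz s s.2)
  have hlt : Nat.card J' < Nat.card Zc := lt_of_le_of_ne (Subgroup.card_le_of_le hle) fun e =>
    hzJ (show (⟨z, hzS⟩ : (S : Subgroup G)) ∈ J' from (Subgroup.eq_of_le_of_card_ge hle e.ge).symm ▸ hzc)
  have hJ4 : Nat.card (S : Subgroup G) = 4 * Nat.card J' := by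
    rwa [Nat.card_congr (Subgroup.subgroupOfEquivOfLe hJS).toEquiv]
  obtain ⟨k, hk⟩ := Subgroup.card_dvd_of_le hle
  have hidx := Subgroup.card_mul_index Zc
  rw [hJ4, hk, mul_assoc, mul_comm 4] at hidx
  have hk4 := Nat.eq_of_mul_eq_mul_left Nat.card_pos hidx
  have hk2 : 2 ≤ k := by
    by_contra h
    interval_cases k <;> omega
  have hi2 : Zc.index ≤ 2 := by nlinarith
  have hi0 : Zc.index ≠ 0 := Subgroup.index_ne_zero_of_finite
  haveI : IsCyclic ((S : Subgroup G) ⧸ Zc) := by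
    have hc : Nat.card ((S : Subgroup G) ⧸ Zc) = 1 ∨ Nat.card ((S : Subgroup G) ⧸ Zc) = 2 := by
      rw [← Subgroup.index_eq_card]; omega
    rcases hc with h | h
    · haveI : Subsingleton ((S : Subgroup G) ⧸ Zc) := (Nat.card_eq_one_iff_unique.1 h).1
      infer_instance
    · exact isCyclic_of_prime_card (p := 2) h
  obtain ⟨a, ha, b, hb, hab⟩ := hna S
  exact hab (congrArg Subtype.val (((QuotientGroup.mk' Zc).isMulCommutative_of_isCyclic_of_ker_le_center
    (by rw [QuotientGroup.ker_mk'])).is_comm.comm ⟨a, ha⟩ ⟨b, hb⟩))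

theorem map_commutator_normalizer {S : Sylow 2 G} {n : G} (hn : n ∈ normalizer ((S : Subgroup G) : Set G))
    {x : G} (hx : x ∈ ⁅(S : Subgroup G), (S : Subgroup G)⁆) :
    n * x * n⁻¹ ∈ ⁅(S : Subgroup G), (S : Subgroup G)⁆ := by
  have h : (S : Subgroup G).map (MulAut.conj n).toMonoidHom = (S : Subgroup G) :=
    Subgroup.mem_normalizer_iff_map_conj_eq.1 hn
  have h2 := Subgroup.mem_map_of_mem (MulAut.conj n).toMonoidHom hx
  rwa [Subgroup.map_commutator, h] at h2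

/-- A non-trivial piece contains an involution outside `O_2` when the latter is trivial. -/
theorem exists_involution_mem {P : Subgroup G} (hP : IsPGroup 2 P) (hne : P ≠ ⊥) :
    ∃ v ∈ P, v ≠ 1 ∧ v * v = 1 := by
  have : Fact (Nat.Prime 2) := ⟨Nat.prime_two⟩
  haveI := (Subgroup.nontrivial_iff_ne_bot P).2 hne
  obtain ⟨k, hk⟩ := IsPGroup.iff_card.1 hP
  have h2 : 2 ∣ Nat.card P := by
    have h1 : 1 < Nat.card P := Finite.one_lt_card
    rw [hk] at h1 ⊢
    exact dvd_pow_self 2 fun e => by rw [e] at h1; simp at h1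
  obtain ⟨v, hv⟩ := exists_prime_orderOf_dvd_card' 2 h2
  rw [orderOf_eq_iff two_pos] at hv
  exact ⟨v, v.2, fun h => hv.2 1 one_lt_two one_pos (by rw [pow_one]; exact Subtype.ext h),
    by rw [← sq]; exact congrArg Subtype.val hv.1⟩

variable (hCI : CI G) (hna : NonAb G) (hO : Cfsg.oddCore G = ⊥)
include hCI hna hO

/-- With trivial `O_2`, a central involution outside a piece makes the derived group meet it trivially. -/
theorem piece_facts (hR : RankOneClass.{u}) (ih : Below.{u} (Nat.card G))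
    (hab : Cfsg.pCore 2 G = ⊥ ∨ ∀ S : Sylow 2 G, ⁅(S : Subgroup G), (S : Subgroup G)⁆ ≤ Cfsg.pCore 2 G)
    {S T T' : Sylow 2 G} (hne : S ≠ T) (hne' : S ≠ T')
    (hJ : ¬ (S : Subgroup G) ⊓ (T : Subgroup G) ≤ Cfsg.pCore 2 G)
    (hJ' : ¬ (S : Subgroup G) ⊓ (T' : Subgroup G) ≤ Cfsg.pCore 2 G)
    (hneq : (S : Subgroup G) ⊓ (T : Subgroup G) ≠ (S : Subgroup G) ⊓ (T' : Subgroup G)) :
    Cfsg.pCore 2 G = ⊥ ∧ ∀ x ∈ ⁅(S : Subgroup G), (S : Subgroup G)⁆, x ∈ (T : Subgroup G) → x = 1 := by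
  have : Fact (Nat.Prime 2) := ⟨Nat.prime_two⟩
  have hcen : ∀ x ∈ (S : Subgroup G) ⊓ (T : Subgroup G), CentralIn S x := fun x hx => central hCI hne hx.1 hx.2
  obtain ⟨htr, hd⟩ := piece hCI hna hO hR ih hne hJ
  rcases hd with h4 | hd
  · exfalso
    obtain ⟨w, hw', hw⟩ := SetLike.not_le_iff_exists.1 hJ'
    exact hneq (piece_eq hCI hna hO ih hne hne' (w := w)
      (mem_of_card_four hna inf_le_left hcen h4 hw'.1 (central hCI hne' hw'.1 hw'.2)) hw' hw)
  have hbot : Cfsg.pCore 2 G = ⊥ := by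
    refine hab.resolve_right fun hle => ?_
    have hST : ⁅(S : Subgroup G), (S : Subgroup G)⁆ ≤ (T : Subgroup G) :=
      (hle S).trans (CfsgLib.PCore.pCore_le_sylow T)
    obtain ⟨a, ha, b, hb, hne2⟩ := hna S
    have h1 := Subgroup.commutator_mem_commutator ha hb
    exact hne2 (commutatorElement_eq_one_iff_mul_comm.1 (hd (Or.inr hST) _ h1 (hST h1)))
  obtain ⟨v, hv, hv1, hv2⟩ := exists_involution_mem (P := (S : Subgroup G) ⊓ (T' : Subgroup G))
    (S.2.to_le inf_le_left) (fun e => hJ' (by rw [e]; exact bot_le))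
  have hvT : v ∉ (T : Subgroup G) := fun h =>
    hneq (piece_eq hCI hna hO ih hne hne' ⟨hv.1, h⟩ hv (by rw [hbot, Subgroup.mem_bot]; exact hv1))
  refine ⟨hbot, hd (Or.inl fun s hs hs2 => ?_)⟩
  by_cases hsT : s ∈ (T : Subgroup G)
  · exact central hCI hne hs hsT
  · obtain ⟨n, hn, -, hj⟩ := htr v hv.1 s hs hvT hsT (by rw [hv2]; exact one_mem _) hs2
    have h1 := centralIn_conj hn (central hCI hne' hv.1 hv.2)
    rw [show s = n * v * n⁻¹ * (s⁻¹ * (n * v * n⁻¹))⁻¹ by group]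
    exact centralIn_mul h1 (central hCI hne (inv_mem hj.1) (inv_mem hj.2))

/-- A Sylow 2-subgroup has at most one piece. -/
theorem unique_piece (hR : RankOneClass.{u}) (ih : Below.{u} (Nat.card G))
    (hab : Cfsg.pCore 2 G = ⊥ ∨ ∀ S : Sylow 2 G, ⁅(S : Subgroup G), (S : Subgroup G)⁆ ≤ Cfsg.pCore 2 G)
    {S T T' : Sylow 2 G} (hne : S ≠ T) (hne' : S ≠ T')
    (hJ : ¬ (S : Subgroup G) ⊓ (T : Subgroup G) ≤ Cfsg.pCore 2 G)
    (hJ' : ¬ (S : Subgroup G) ⊓ (T' : Subgroup G) ≤ Cfsg.pCore 2 G) :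
    (S : Subgroup G) ⊓ (T : Subgroup G) = (S : Subgroup G) ⊓ (T' : Subgroup G) := by
  have : Fact (Nat.Prime 2) := ⟨Nat.prime_two⟩
  by_contra hneq
  obtain ⟨hbot, hd⟩ := piece_facts hCI hna hO hR ih hab hne hne' hJ hJ' hneq
  obtain ⟨-, hd'⟩ := piece_facts hCI hna hO hR ih hab hne' hne hJ' hJ (Ne.symm hneq)
  obtain ⟨htr, -⟩ := piece hCI hna hO hR ih hne hJ
  obtain ⟨htr', -⟩ := piece hCI hna hO hR ih hne' hJ'
  set D := ⁅(S : Subgroup G), (S : Subgroup G)⁆ with hD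
  have hDS : D ≤ (S : Subgroup G) := Subgroup.commutator_le_self _
  let R : Subgroup G :=
    { carrier := {r | r ∈ D ∧ CentralIn S r ∧ r * r = 1}
      mul_mem' := by
        rintro a b ⟨ha, hac, ha2⟩ ⟨hb, hbc, hb2⟩
        refine ⟨mul_mem ha hb, centralIn_mul hac hbc, ?_⟩
        rw [mul_assoc, ← mul_assoc b, hac b (hDS hb), mul_assoc a, hb2, mul_one, ha2]
      one_mem' := ⟨one_mem _, fun s _ => by rw [mul_one, one_mul], one_mul 1⟩
      inv_mem' := by
        rintro a ⟨ha, hac, ha2⟩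
        rw [inv_eq_of_mul_eq_one_right ha2]
        exact ⟨ha, hac, ha2⟩ }
  have hRS : R ≤ (S : Subgroup G) := fun r hr => hDS hr.1
  have hRc : ∀ r ∈ R, ∀ n ∈ normalizer ((S : Subgroup G) : Set G), n * r * n⁻¹ ∈ R :=
    fun r hr n hn => ⟨map_commutator_normalizer hn hr.1, centralIn_conj hn hr.2.1, by
      rw [show n * r * n⁻¹ * (n * r * n⁻¹) = n * (r * r) * n⁻¹ by group, hr.2.2, mul_one, mul_inv_cancel]⟩
  have hRT : ∀ r ∈ R, r ∈ (T : Subgroup G) → r = 1 := fun r hr h => hd r hr.1 h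
  have hRT' : ∀ r ∈ R, r ∈ (T' : Subgroup G) → r = 1 := fun r hr h => hd' r hr.1 h
  -- an involution in `R`
  obtain ⟨r0, hr0, hr01⟩ : ∃ r ∈ R, r ≠ 1 := by
    haveI : Group.IsNilpotent ↥(S : Subgroup G) := S.2.isNilpotent
    haveI : (_root_.commutator ↥(S : Subgroup G)).Normal := inferInstance
    have hne0 : _root_.commutator ↥(S : Subgroup G) ≠ ⊥ := fun e => by
      obtain ⟨a, ha, b, hb, hne2⟩ := hna S
      have h1 : ⁅(⟨a, ha⟩ : (S : Subgroup G)), ⟨b, hb⟩⁆ ∈ _root_.commutator ↥(S : Subgroup G) :=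
        Subgroup.commutator_mem_commutator (Subgroup.mem_top _) (Subgroup.mem_top _)
      rw [e, Subgroup.mem_bot, commutatorElement_eq_one_iff_mul_comm] at h1
      exact hne2 (congrArg Subtype.val h1)
    obtain ⟨v, hv, hv1, hv2⟩ := exists_involution_mem
      (P := center ↥(S : Subgroup G) ⊓ _root_.commutator ↥(S : Subgroup G)) (S.2.to_subgroup _)
      (CfsgLib.OddOrder.PuigSeries.inf_center_ne_bot _ hne0)
    refine ⟨v, ⟨?_, fun s hs => congrArg Subtype.val (mem_center_iff.1 hv.1 ⟨s, hs⟩), congrArg Subtype.val hv2⟩,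
      fun h => hv1 (Subtype.ext h)⟩
    rw [hD, ← Subgroup.map_subtype_commutator]
    exact ⟨v, hv.2, rfl⟩
  -- transitivity
  have htrans : ∀ U : Sylow 2 G, (∀ a ∈ (S : Subgroup G), ∀ b ∈ (S : Subgroup G), a ∉ (U : Subgroup G) →
      b ∉ (U : Subgroup G) → a * a ∈ (U : Subgroup G) → b * b ∈ (U : Subgroup G) →
      ∃ n ∈ normalizer ((S : Subgroup G) : Set G),
        (∀ j ∈ (S : Subgroup G) ⊓ (U : Subgroup G), n * j = j * n) ∧
        b⁻¹ * (n * a * n⁻¹) ∈ (S : Subgroup G) ⊓ (U : Subgroup G)) →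
      (∀ r ∈ R, r ∈ (U : Subgroup G) → r = 1) → ∀ r ∈ R, ∀ r' ∈ R, r ≠ 1 → r' ≠ 1 →
      ∃ n ∈ normalizer ((S : Subgroup G) : Set G),
        (∀ j ∈ (S : Subgroup G) ⊓ (U : Subgroup G), n * j = j * n) ∧ n * r * n⁻¹ = r' := by
    intro U hU hRU r hr r' hr' h h'
    obtain ⟨n, hn, hnc, hj⟩ := hU r (hRS hr) r' (hRS hr') (fun e => h (hRU r hr e)) (fun e => h' (hRU r' hr' e))
      (by rw [hr.2.2]; exact one_mem _) (by rw [hr'.2.2]; exact one_mem _)
    refine ⟨n, hn, hnc, ?_⟩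
    have h1 := hRU _ (mul_mem (inv_mem hr') (hRc r hr n hn)) hj.2
    rwa [inv_mul_eq_one, eq_comm] at h1
  have hT := htrans T htr hRT
  have hT' := htrans T' htr' hRT'
  -- a central involution of the piece
  obtain ⟨v, hv, hv1, hv2⟩ := exists_involution_mem (P := (S : Subgroup G) ⊓ (T : Subgroup G))
    (S.2.to_le inf_le_left) (fun e => hJ (by rw [e]; exact bot_le))
  have hvc : CentralIn S v := central hCI hne hv.1 hv.2
  have hvT' : v ∉ (T' : Subgroup G) := fun h =>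
    hneq (piece_eq hCI hna hO ih hne hne' hv ⟨hv.1, h⟩ (by rw [hbot, Subgroup.mem_bot]; exact hv1))
  obtain ⟨r1, hr1, hr11, hr1v⟩ : ∃ r ∈ R, r ≠ 1 ∧ v * r ∈ (S : Subgroup G) ⊓ (T' : Subgroup G) := by
    obtain ⟨n, hn, -, hj⟩ := htr' r0 (hRS hr0) v hv.1 (fun e => hr01 (hRT' r0 hr0 e)) hvT'
      (by rw [hr0.2.2]; exact one_mem _) (by rw [hv2]; exact one_mem _)
    refine ⟨_, hRc r0 hr0 n hn, fun h => hr01 ?_, by rwa [inv_eq_of_mul_eq_one_right hv2] at hj⟩
    rwa [mul_inv_eq_one, mul_eq_left] at h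
  -- `R` has more than two elements
  obtain ⟨r2, hr2, hr21, hr2r1⟩ : ∃ r ∈ R, r ≠ 1 ∧ r ≠ r1 := by
    by_contra h
    push Not at h
    have hfix : ∀ n ∈ normalizer ((S : Subgroup G) : Set G), n * r1 * n⁻¹ = r1 := fun n hn =>
      h _ (hRc r1 hr1 n hn) fun e => hr11 (by rwa [mul_inv_eq_one, mul_eq_left] at e)
    have hord : orderOf r1 = 2 := orderOf_eq_prime (by rw [sq, hr1.2.2]) hr11
    have hc := isolated_central hCI hO hord (hRS hr1) hfix
    haveI : (zpowers r1).Normal := ⟨fun y hy g => by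
      rwa [mem_center_iff.1 (zpowers_le.2 hc hy) g, mul_inv_cancel_right]⟩
    have h1 : zpowers r1 ≤ Cfsg.pCore 2 G :=
      CfsgLib.PCore.le_pCore inferInstance (S.2.to_le (zpowers_le.2 (hRS hr1)))
    exact hr11 (Subgroup.mem_bot.1 (hbot ▸ h1 (mem_zpowers r1)))
  -- the subgroup permuting the coset `v R`
  let H : Subgroup G :=
    { carrier := {n | n ∈ normalizer ((S : Subgroup G) : Set G) ∧ v⁻¹ * (n * v * n⁻¹) ∈ R}
      mul_mem' := by
        rintro m n ⟨hm, hmv⟩ ⟨hn, hnv⟩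
        refine ⟨mul_mem hm hn, ?_⟩
        rw [show v⁻¹ * (m * n * v * (m * n)⁻¹) = v⁻¹ * (m * v * m⁻¹) * (m * (v⁻¹ * (n * v * n⁻¹)) * m⁻¹) by group]
        exact mul_mem hmv (hRc _ hnv m hm)
      one_mem' := ⟨one_mem _, by simp [R.one_mem]⟩
      inv_mem' := by
        rintro n ⟨hn, hnv⟩
        refine ⟨inv_mem hn, ?_⟩
        have h1 := hRc _ (inv_mem hnv) n⁻¹ (inv_mem hn)
        rwa [show n⁻¹ * (v⁻¹ * (n * v * n⁻¹))⁻¹ * n⁻¹⁻¹ = v⁻¹ * (n⁻¹ * v * n⁻¹⁻¹) by
          rw [show v⁻¹ * (n * v * n⁻¹) = v⁻¹ * n * v * n⁻¹ by group]; group] at h1 }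
  have horb : ∀ r ∈ R, ∃ n ∈ H, v⁻¹ * (n * v * n⁻¹) = r := by
    have hT'v : ∀ r ∈ R, r ≠ 1 → ∃ n ∈ H, v⁻¹ * (n * v * n⁻¹) = r1 * r := by
      intro r hr hr1'
      obtain ⟨n, hn, hnc, hnr⟩ := hT' r1 hr1 r hr hr11 hr1'
      have h1 : v⁻¹ * (n * v * n⁻¹) = r1 * r := by
        have h2 : n * (v * r1) * n⁻¹ = v * r1 := by rw [hnc _ hr1v, mul_inv_cancel_right]
        have h3 : n * v * n⁻¹ = v * r1 * (n * r1 * n⁻¹)⁻¹ := by
          conv_rhs => arg 1; rw [← h2]
          group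
        rw [h3, hnr, inv_eq_of_mul_eq_one_right hr.2.2]; group
      exact ⟨n, ⟨hn, h1 ▸ mul_mem hr1 hr⟩, h1⟩
    intro r hr
    by_cases hrr : r = r1
    · rw [hrr]
      have hne12 : r1 * (r1 * r2) ≠ 1 := by
        rw [← mul_assoc, hr1.2.2, one_mul]; exact hr21
      obtain ⟨m, hm, hmv⟩ := hT'v (r1 * r2) (mul_mem hr1 hr2) fun e => hr2r1 (by
        rw [mul_eq_one_iff_eq_inv, inv_eq_of_mul_eq_one_right hr2.2.2] at e; exact e.symm)
      rw [← mul_assoc r1, hr1.2.2, one_mul] at hmv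
      obtain ⟨n, hn, hnc, hnr⟩ := hT r2 hr2 r1 hr1 hr21 hr11
      have hnH : n ∈ H := ⟨hn, by rw [hnc v hv, mul_inv_cancel_right, inv_mul_cancel]; exact one_mem _⟩
      refine ⟨n * m, mul_mem hnH hm, ?_⟩
      rw [show v⁻¹ * (n * m * v * (n * m)⁻¹) = v⁻¹ * (n * v * n⁻¹) * (n * (v⁻¹ * (m * v * m⁻¹)) * n⁻¹) by group,
        hmv, hnr, hnc v hv, mul_inv_cancel_right, inv_mul_cancel, one_mul]
    · obtain ⟨n, hn, hnv⟩ := hT'v (r1 * r) (mul_mem hr1 hr) fun e => hrr (by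
        rw [mul_eq_one_iff_eq_inv, inv_eq_of_mul_eq_one_right hr.2.2] at e; exact e.symm)
      exact ⟨n, hn, by rw [hnv, ← mul_assoc r1, hr1.2.2, one_mul]⟩
  -- the stabiliser of `v` has index `|R|`, which is even, but contains `S`
  have hSH : (S : Subgroup G) ≤ H := fun s hs => ⟨Subgroup.le_normalizer hs, by
    rw [hvc s hs, mul_inv_cancel_right, inv_mul_cancel]; exact one_mem _⟩
  let St : Subgroup H := (centralizer ({v} : Set G)).subgroupOf H
  let f : H → R := fun n => ⟨v⁻¹ * ((n : G) * v * (n : G)⁻¹), n.2.2⟩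
  have hf : ∀ a b : H, f a = f b ↔ a⁻¹ * b ∈ St := by
    intro a b
    rw [Subtype.ext_iff, mul_right_inj, mem_subgroupOf, mem_centralizer_singleton_iff, Subgroup.coe_mul,
      Subgroup.coe_inv]
    constructor
    · intro h
      calc (a : G)⁻¹ * b * v = (a : G)⁻¹ * ((b : G) * v * (b : G)⁻¹) * b := by group
        _ = (a : G)⁻¹ * ((a : G) * v * (a : G)⁻¹) * b := by rw [h]
        _ = v * ((a : G)⁻¹ * b) := by group
    · intro h
      calc (a : G) * v * (a : G)⁻¹ = (a : G) * (v * ((a : G)⁻¹ * b)) * (b : G)⁻¹ := by group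
        _ = (a : G) * ((a : G)⁻¹ * b * v) * (b : G)⁻¹ := by rw [h]
        _ = (b : G) * v * (b : G)⁻¹ := by group
  let fq : H ⧸ St → R := Quotient.lift f fun a b h => (hf a b).2 (QuotientGroup.leftRel_apply.1 h)
  have hbij : Function.Bijective fq := by
    refine ⟨fun p q => ?_, fun r => ?_⟩
    · induction p using QuotientGroup.induction_on with
      | H a =>
        induction q using QuotientGroup.induction_on with
        | H b => exact fun h => QuotientGroup.eq.2 ((hf a b).1 h)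
    · obtain ⟨n, hn, e⟩ := horb r r.2
      exact ⟨QuotientGroup.mk ⟨n, hn⟩, Subtype.ext e⟩
  have hSSt : ((S.subtype hSH : Sylow 2 H) : Subgroup H) ≤ St := fun s hs =>
    mem_centralizer_singleton_iff.2 (hvc _ hs)
  refine (S.subtype hSH).not_dvd_index (dvd_trans ?_ (Subgroup.index_dvd_of_le hSSt))
  rw [Subgroup.index_eq_card, Nat.card_eq_of_bijective fq hbij]
  have hord : orderOf (⟨r1, hr1⟩ : R) = 2 :=
    orderOf_eq_prime (Subtype.ext (by rw [SubmonoidClass.coe_pow, sq]; exact hr1.2.2))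
      (fun h => hr11 (congrArg Subtype.val h))
  exact hord ▸ orderOf_dvd_natCard _

/-- A group generated by its Sylow subgroups, none of whose pieces is new modulo `O_2`, has none. -/
theorem inter_le_of_unique (hR : RankOneClass.{u}) (ih : Below.{u} (Nat.card G)) (hg : Gen G)
    (hab : Cfsg.pCore 2 G = ⊥ ∨ ∀ S : Sylow 2 G, ⁅(S : Subgroup G), (S : Subgroup G)⁆ ≤ Cfsg.pCore 2 G)
    {S T : Sylow 2 G} (hne : S ≠ T) : (S : Subgroup G) ⊓ (T : Subgroup G) ≤ Cfsg.pCore 2 G := by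
  have : Fact (Nat.Prime 2) := ⟨Nat.prime_two⟩
  by_contra hJ
  obtain ⟨J, hJdef⟩ : ∃ J, J = (S : Subgroup G) ⊓ (T : Subgroup G) := ⟨_, rfl⟩
  obtain ⟨Z, hZdef⟩ : ∃ Z, Z = Cfsg.pCore 2 G := ⟨_, rfl⟩
  haveI hZn : Z.Normal := hZdef ▸ Cfsg.pCore_normal 2 G
  rw [← hJdef, ← hZdef] at hJ
  have hZc : Z ≤ center G := hZdef ▸ pCore_le_center hCI hg hne
  have hZ2 : IsPGroup 2 Z := hZdef ▸ CfsgLib.PCore.pCore_isPGroup
  have hZS : ∀ U : Sylow 2 G, Z ≤ (U : Subgroup G) := fun U => hZdef ▸ CfsgLib.PCore.pCore_le_sylow U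
  have hJ2 : IsPGroup 2 J := hJdef ▸ S.2.to_le inf_le_left
  set N := normalizer (J : Set G) with hNdef
  have hZN : Z ≤ N := fun z hz => mem_normalizer_iff.2 fun j => by
    rw [← mem_center_iff.1 (hZc hz) j, mul_inv_cancel_right]
  -- conjugates of `J`
  have hconj : ∀ g : G, ∀ A B : Sylow 2 G, J = (A : Subgroup G) ⊓ (B : Subgroup G) →
      ∀ x, x ∈ ((g • A : Sylow 2 G) : Subgroup G) ⊓ ((g • B : Sylow 2 G) : Subgroup G) ↔ g⁻¹ * x * g ∈ J :=
    fun g A B h x => by rw [h, Subgroup.mem_inf, mem_smul_iff, mem_smul_iff, Subgroup.mem_inf]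
  have hnotle : ∀ g : G, ¬ ((g • S : Sylow 2 G) : Subgroup G) ⊓ ((g • T : Sylow 2 G) : Subgroup G) ≤
      Cfsg.pCore 2 G := fun g hle => hJ fun x hx => by
    have h1 : g * x * g⁻¹ ∈ Z := hZdef ▸ hle ((hconj g S T hJdef _).2 (by simpa [mul_assoc] using hx))
    have h2 := hZn.conj_mem _ h1 g⁻¹
    simpa [mul_assoc] using h2
  have hsmul : ∀ g : G, (g • S : Sylow 2 G) ≠ g • T := fun g e => hne (MulAction.injective g e)
  -- a Sylow subgroup containing `J` contains no other conjugate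
  have hone : ∀ (R : Sylow 2 G) (g : G), J ≤ (R : Subgroup G) →
      (∀ x, g⁻¹ * x * g ∈ J → x ∈ (R : Subgroup G)) → ∀ x, x ∈ J ↔ g⁻¹ * x * g ∈ J := by
    intro R g hJR hgR
    have hge : ((g • S : Sylow 2 G) : Subgroup G) ⊓ ((g • T : Sylow 2 G) : Subgroup G) ≤ (R : Subgroup G) :=
      fun x hx => hgR x ((hconj g S T hJdef x).1 hx)
    have hJ' : ¬ (S : Subgroup G) ⊓ (T : Subgroup G) ≤ Cfsg.pCore 2 G := by rwa [← hJdef, ← hZdef]
    obtain ⟨w, hwJ, hw⟩ := SetLike.not_le_iff_exists.1 hJ'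
    obtain ⟨w', hwJ', hw'⟩ := SetLike.not_le_iff_exists.1 (hnotle g)
    -- both are pieces of `R`
    obtain ⟨A, hA, hAJ⟩ : ∃ A : Sylow 2 G, R ≠ A ∧ (S : Subgroup G) ⊓ T ≤ (A : Subgroup G) := by
      by_cases h : R = S
      · exact ⟨T, h ▸ hne, inf_le_right⟩
      · exact ⟨S, h, inf_le_left⟩
    obtain ⟨B, hB, hBJ⟩ : ∃ B : Sylow 2 G, R ≠ B ∧
        ((g • S : Sylow 2 G) : Subgroup G) ⊓ ((g • T : Sylow 2 G) : Subgroup G) ≤ (B : Subgroup G) := by
      by_cases h : R = g • S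
      · exact ⟨g • T, h ▸ hsmul g, inf_le_right⟩
      · exact ⟨g • S, h, inf_le_left⟩
    have hwR : w ∈ (R : Subgroup G) ⊓ (A : Subgroup G) := ⟨hJR (hJdef ▸ hwJ), hAJ hwJ⟩
    have hwR' : w' ∈ (R : Subgroup G) ⊓ (B : Subgroup G) := ⟨hge hwJ', hBJ hwJ'⟩
    have e := unique_piece hCI hna hO hR ih hab hA hB (fun h => hw (h hwR)) (fun h => hw' (h hwR'))
    have e1 : J = (R : Subgroup G) ⊓ (A : Subgroup G) := by
      rw [hJdef]; exact piece_eq hCI hna hO ih hne hA hwJ hwR hw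
    have e2 := piece_eq hCI hna hO ih (hsmul g) hB hwJ' hwR' hw'
    intro x
    rw [← hconj g S T hJdef x, e1, e, ← e2]
  have hmemN : ∀ g : G, (∀ x, x ∈ J ↔ g⁻¹ * x * g ∈ J) → g ∈ N := fun g h =>
    mem_normalizer_iff''.2 h
  have hSN' : ∀ R : Sylow 2 G, J ≤ (R : Subgroup G) → normalizer ((R : Subgroup G) : Set G) ≤ N :=
    fun R hJR n hn => hmemN n (hone R n hJR fun x hx => by
      have h2 := (mem_normalizer_iff.1 hn _).1 (hJR hx)
      simpa [mul_assoc] using h2)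
  have hJS : J ≤ (S : Subgroup G) := hJdef ▸ inf_le_left
  have hJT : J ≤ (T : Subgroup G) := hJdef ▸ inf_le_right
  have hSN : (S : Subgroup G) ≤ N := Subgroup.le_normalizer.trans (hSN' S hJS)
  have hTN : (T : Subgroup G) ≤ N := Subgroup.le_normalizer.trans (hSN' T hJT)
  -- a 2-element of `N` outside `Z` moved into `N` gives an element of `N`
  have hkey : ∀ (x g : G) (k : ℕ), x ^ 2 ^ k = 1 → x ∉ Z → x ∈ N → g⁻¹ * x * g ∈ N → g ∈ N := by
    intro x g k hk hxZ hxN hxg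
    obtain ⟨R, hRN, hxR⟩ := exists_sylow_mem hSN hk hxN
    obtain ⟨R2, hR2N, hxR2⟩ := exists_sylow_mem (x := g⁻¹ * x * g) (k := k) hSN (by
      have h := conj_pow (a := g⁻¹) (b := x) (i := 2 ^ k)
      rw [inv_inv, hk, mul_one, inv_mul_cancel] at h
      exact h) hxg
    have hcontains : ∀ U : Sylow 2 G, (U : Subgroup G) ≤ N → J ≤ (U : Subgroup G) := by
      intro U hU
      obtain ⟨n, hn, hnU⟩ := exists_smul_eq_in hSN hU
      intro j hj
      rw [← hnU, mem_smul_iff]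
      exact hJS ((mem_normalizer_iff''.1 hn j).1 hj)
    have hJR := hcontains R hRN
    have hJR2 := hcontains R2 hR2N
    have hxR3 : x ∈ ((g • R2 : Sylow 2 G) : Subgroup G) := mem_smul_iff.2 hxR2
    refine hmemN g (hone R g hJR fun y hy => ?_)
    have hy3 : y ∈ ((g • R2 : Sylow 2 G) : Subgroup G) := mem_smul_iff.2 (hJR2 hy)
    by_cases hRR : R = g • R2
    · rwa [hRR]
    · have hxp : x ∈ (R : Subgroup G) ⊓ ((g • R2 : Sylow 2 G) : Subgroup G) := ⟨hxR, hxR3⟩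
      -- `R₂` has a piece equal to `J`, so its translate has `g J g⁻¹`
      obtain ⟨A, hA, hAJ⟩ : ∃ A : Sylow 2 G, R2 ≠ A ∧ J ≤ (A : Subgroup G) := by
        by_cases h : R2 = S
        · exact ⟨T, h ▸ hne, hJT⟩
        · exact ⟨S, h, hJS⟩
      have hy' : y ∈ ((g • R2 : Sylow 2 G) : Subgroup G) ⊓ ((g • A : Sylow 2 G) : Subgroup G) :=
        ⟨hy3, mem_smul_iff.2 (hAJ hy)⟩
      have hnot : ¬ ((g • R2 : Sylow 2 G) : Subgroup G) ⊓ ((g • A : Sylow 2 G) : Subgroup G) ≤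
          Cfsg.pCore 2 G := fun hle => hnotle g fun z hz => hle
        ⟨mem_smul_iff.2 (hJR2 ((hconj g S T hJdef z).1 hz)), mem_smul_iff.2 (hAJ ((hconj g S T hJdef z).1 hz))⟩
      rw [unique_piece hCI hna hO hR ih hab (fun e => hA (MulAction.injective g e)) (Ne.symm hRR) hnot
        (fun hle => hxZ (hZdef ▸ hle ⟨hxR3, hxR⟩))] at hy'
      exact hy'.2
  -- strong embedding in the quotient
  let π := QuotientGroup.mk' Z
  let Nb := N.map π
  have hcomap : ∀ x, π x ∈ Nb → x ∈ N := by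
    rintro x ⟨n, hn, e⟩
    have := mul_mem hn (hZN (QuotientGroup.eq.1 e))
    rwa [mul_inv_cancel_left] at this
  have hOb : Cfsg.oddCore (G ⧸ Z) = ⊥ := oddCore_quotient_eq_bot Z hZc (hO ▸ bot_le)
  have hO2 : Cfsg.pCore 2 (G ⧸ Z) = ⊥ := by subst hZdef; exact CfsgLib.PCore.pCore_quotient_pCore
  have hSE : Cfsg.IsStronglyEmbedded Nb := by
    refine ⟨fun e => ?_, ?_, fun g hg => ?_⟩
    · haveI : J.Normal := Subgroup.normalizer_eq_top_iff.1 (eq_top_iff.2 fun x _ =>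
        hcomap x (e ▸ Subgroup.mem_top _))
      exact hJ (hZdef ▸ CfsgLib.PCore.le_pCore inferInstance hJ2)
    · obtain ⟨w, hwJ, hw⟩ := SetLike.not_le_iff_exists.1 hJ
      have hne0 : J.map π ≠ ⊥ := fun e =>
        hw ((QuotientGroup.eq_one_iff w).1 (Subgroup.mem_bot.1 (e ▸ mem_map_of_mem π hwJ)))
      obtain ⟨v, hv, hv1, hv2⟩ := exists_involution_mem (hJ2.map π) hne0
      rw [even_iff_two_dvd, ← orderOf_eq_prime (by rw [sq, hv2] : v ^ 2 = 1) hv1,
        ← Subgroup.orderOf_mk v (Subgroup.map_mono Subgroup.le_normalizer hv : v ∈ Nb)]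
      exact orderOf_dvd_natCard _
    · rw [← Nat.not_even_iff_odd, even_iff_two_dvd]
      intro hd
      obtain ⟨y, hy⟩ := exists_prime_orderOf_dvd_card' 2 hd
      rw [← Subgroup.orderOf_coe] at hy
      obtain ⟨x, hx⟩ := QuotientGroup.mk'_surjective Z (y : G ⧸ Z)
      have hxZ : x ∉ Z := fun h => by
        rw [← hx, QuotientGroup.mk'_apply, (QuotientGroup.eq_one_iff x).2 h, orderOf_one] at hy
        exact absurd hy (by norm_num)
      have hx2 : x ^ 2 ∈ Z := (QuotientGroup.eq_one_iff _).1 (by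
        show π (x ^ 2) = 1
        rw [map_pow, hx, ← hy, pow_orderOf_eq_one])
      obtain ⟨k, hk⟩ := hZ2 ⟨_, hx2⟩
      have hk' : x ^ 2 ^ (k + 1) = 1 := by
        rw [pow_succ', pow_mul]; exact congrArg Subtype.val hk
      obtain ⟨g', rfl⟩ := QuotientGroup.mk'_surjective Z g
      have h1 : g'⁻¹ * x * g' ∈ N := by
        obtain ⟨n, hn, e⟩ := y.2.2
        refine hcomap _ ?_
        rw [map_mul, map_mul, map_inv, hx, ← e]
        show (π g')⁻¹ * (π g' * n * (π g')⁻¹) * π g' ∈ Nb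
        rw [show (π g')⁻¹ * (π g' * n * (π g')⁻¹) * π g' = n by group]
        exact hn
      exact hg (mem_map_of_mem π (hkey x g' (k + 1) hk' hxZ (hcomap x (hx.symm ▸ y.2.1)) h1))
  obtain ⟨-, -, -, U, hU⟩ := simple_of_stronglyEmbedded hR hOb hO2 (gen_quotient hg Z) hSE
  have hin : ∀ R : Sylow 2 G, (R : Subgroup G) ≤ N →
      R.mapSurjective (QuotientGroup.mk'_surjective Z) = U := by
    intro R hRN
    refine Sylow.ext (((R.mapSurjective (QuotientGroup.mk'_surjective Z)).3 U.2 ?_).symm)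
    have h1 : ((R.mapSurjective (QuotientGroup.mk'_surjective Z) : Sylow 2 (G ⧸ Z)) : Subgroup (G ⧸ Z)) ≤
        normalizer ((U : Subgroup (G ⧸ Z)) : Set (G ⧸ Z)) := by
      rw [← hU, Sylow.coe_mapSurjective]; exact Subgroup.map_mono hRN
    have h2 := (R.mapSurjective (QuotientGroup.mk'_surjective Z)).2.inf_normalizer_sylow U
    exact ((le_inf le_rfl h1).trans h2.le).trans inf_le_right
  have hle : (S : Subgroup G) ≤ (T : Subgroup G) := by
    intro s hs
    have h1 : π s ∈ ((T.mapSurjective (QuotientGroup.mk'_surjective Z) : Sylow 2 (G ⧸ Z)) : Subgroup (G ⧸ Z)) := by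
      rw [hin T hTN, ← hin S hSN]; exact ⟨s, hs, rfl⟩
    obtain ⟨t, ht, e⟩ := h1
    have := mul_mem ht (hZS T (QuotientGroup.eq.1 e))
    rwa [mul_inv_cancel_left] at this
  exact hne (Sylow.ext ((S.3 T.2 hle).symm))

/-- The inductive step. -/
theorem step (hR : RankOneClass.{u}) (ih : Below.{u} (Nat.card G)) {S T : Sylow 2 G} (hne : S ≠ T) :
    (S : Subgroup G) ⊓ (T : Subgroup G) ≤ Cfsg.pCore 2 G := by
  have : Fact (Nat.Prime 2) := ⟨Nat.prime_two⟩
  by_cases hg : Gen G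
  · obtain ⟨Z, hZdef⟩ : ∃ Z, Z = Cfsg.pCore 2 G := ⟨_, rfl⟩
    haveI hZn : Z.Normal := hZdef ▸ Cfsg.pCore_normal 2 G
    have hZc : Z ≤ center G := hZdef ▸ pCore_le_center hCI hg hne
    let π := QuotientGroup.mk' Z
    by_cases hb : Z = ⊥
    · exact inter_le_of_unique hCI hna hO hR ih hg (Or.inl (hZdef.symm.trans hb)) hne
    by_cases hW : NonAb (G ⧸ Z)
    · have hcard : Nat.card (G ⧸ Z) < Nat.card G := by
        rw [Subgroup.card_eq_card_quotient_mul_card_subgroup Z]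
        exact lt_mul_of_one_lt_right Nat.card_pos
          ((Subgroup.one_lt_card_iff_ne_bot Z).2 hb)
      intro x hx
      let Sb := S.mapSurjective (QuotientGroup.mk'_surjective Z)
      let Tb := T.mapSurjective (QuotientGroup.mk'_surjective Z)
      have hZT : Z ≤ (T : Subgroup G) := hZdef ▸ CfsgLib.PCore.pCore_le_sylow T
      have hneb : Sb ≠ Tb := fun e => hne (Sylow.ext ((S.3 T.2 fun s hs => by
        have h1 : π s ∈ (Sb : Subgroup (G ⧸ Z)) := ⟨s, hs, rfl⟩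
        rw [e] at h1
        obtain ⟨t, ht, e⟩ := h1
        have := mul_mem ht (hZT (QuotientGroup.eq.1 e))
        rwa [mul_inv_cancel_left] at this).symm))
      have h1 := ih (G ⧸ Z) hcard (ci_quotient hCI Z) hW
        (oddCore_quotient_eq_bot Z hZc (hO ▸ bot_le)) Sb Tb hneb
        (⟨⟨x, hx.1, rfl⟩, ⟨x, hx.2, rfl⟩⟩ : π x ∈ (Sb : Subgroup (G ⧸ Z)) ⊓ (Tb : Subgroup (G ⧸ Z)))
      subst hZdef
      rw [CfsgLib.PCore.pCore_quotient_pCore, Subgroup.mem_bot] at h1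
      exact (QuotientGroup.eq_one_iff x).1 h1
    · refine inter_le_of_unique hCI hna hO hR ih hg (Or.inr fun U => ?_) hne
      rw [← hZdef]
      obtain ⟨V, hV⟩ : ∃ V : Sylow 2 (G ⧸ Z), ∀ a ∈ (V : Subgroup (G ⧸ Z)), ∀ b ∈ (V : Subgroup (G ⧸ Z)),
          a * b = b * a := by
        by_contra h
        push Not at h
        exact hW h
      obtain ⟨g, hg'⟩ := MulAction.exists_smul_eq (G ⧸ Z) (U.mapSurjective (QuotientGroup.mk'_surjective Z)) V
      refine Subgroup.commutator_le.2 fun a ha b hb => (QuotientGroup.eq_one_iff _).1 ?_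
      show π ⁅a, b⁆ = 1
      rw [map_commutatorElement, commutatorElement_eq_one_iff_mul_comm]
      have hA : ∀ c ∈ (U : Subgroup G), g * π c * g⁻¹ ∈ (V : Subgroup (G ⧸ Z)) := fun c hc => by
        rw [← hg', mem_smul_iff]
        exact ⟨c, hc, by group; rfl⟩
      have h2 := hV _ (hA a ha) _ (hA b hb)
      calc π a * π b = g⁻¹ * ((g * π a * g⁻¹) * (g * π b * g⁻¹)) * g := by group
        _ = g⁻¹ * ((g * π b * g⁻¹) * (g * π a * g⁻¹)) * g := by rw [h2]
        _ = π b * π a := by group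
  · obtain ⟨K, hK⟩ : ∃ K : Subgroup G, K = ⨆ U : Sylow 2 G, (U : Subgroup G) := ⟨_, rfl⟩
    have hUK : ∀ U : Sylow 2 G, (U : Subgroup G) ≤ K := fun U =>
      hK ▸ le_iSup (fun U : Sylow 2 G => (U : Subgroup G)) U
    haveI : K.Normal := Subgroup.normalizer_eq_top_iff.1 (eq_top_iff.2 fun g _ => by
      refine Subgroup.mem_normalizer_iff_map_conj_eq.2 (le_antisymm ?_ ?_)
      · rw [hK, Subgroup.map_iSup]
        refine iSup_le fun U => le_trans (le_of_eq ?_) (le_iSup (fun U : Sylow 2 G => (U : Subgroup G)) (g • U))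
        rw [Sylow.coe_subgroup_smul]; rfl
      · rw [hK]
        refine iSup_le fun U x hx => ⟨g⁻¹ * x * g, ?_, by simp [mul_assoc]⟩
        refine le_iSup (fun U : Sylow 2 G => (U : Subgroup G)) (g⁻¹ • U) ?_
        show g⁻¹ * x * g ∈ ((g⁻¹ • U : Sylow 2 G) : Subgroup G)
        rw [mem_smul_iff]; simpa [mul_assoc] using hx)
    have hcard : Nat.card K < Nat.card G := lt_of_le_of_ne (Subgroup.card_le_card_group K)
      fun e => hg (hK.symm.trans ((Subgroup.card_eq_iff_eq_top K).1 e))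
    intro x hx
    have h1 := ih K hcard (ci_subgroup hCI K S (hUK S)) (na_subgroup hna (hUK S))
      (CfsgLib.PCore.pPrimeCore_eq_bot_of_normal K hO) _ _
      (fun e : S.subtype (hUK S) = T.subtype (hUK T) => hne (Sylow.subtype_injective e))
      (⟨hx.1, hx.2⟩ : (⟨x, hUK S hx.1⟩ : K) ∈ ((S.subtype (hUK S) : Sylow 2 K) : Subgroup K) ⊓
        ((T.subtype (hUK T) : Sylow 2 K) : Subgroup K))
    have h2 : x ∈ K ⊓ Cfsg.pCore 2 G := CfsgLib.PCore.map_pCore_subtype_of_normal (p := 2) K ▸ ⟨_, h1, rfl⟩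
    exact h2.2

omit hCI hna hO in
theorem below (hR : RankOneClass.{u}) : ∀ n, Below.{u} n := by
  intro n
  induction n using Nat.strong_induction_on with
  | _ n ih =>
    intro H _ _ hlt hC hn hO' S T hne
    exact step hC hn hO' hR (ih (Nat.card H) hlt) hne

/-- **Theorem**: without odd core, distinct Sylow 2-subgroups with non-abelian Sylow and central
intersections meet in `O_2`. -/
theorem inter_le_pCore (hR : RankOneClass.{u}) {S T : Sylow 2 G} (hne : S ≠ T) :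
    (S : Subgroup G) ⊓ (T : Subgroup G) ≤ Cfsg.pCore 2 G :=
  below hR _ G (Nat.lt_succ_self _) hCI hna hO S T hne

end CfsgLib.CentralSylow
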