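import Cfsg.Agent.Lib.CentralSylow.Basic
import Cfsg.Prelude.Def_CaseTheorems
import Cfsg.Agent.Lib.PCore.Basic
import Cfsg.Agent.Lib.TwoGroups.OneInvolution
import Cfsg.Agent.S0205
import Cfsg.Agent.S0215

/-!
In a group with central Sylow 2-intersections, non-abelian Sylow 2-subgroups and trivial core a Sylow
2-subgroup centralises every subgroup of odd order that it normalises.
-/

set_option autoImplicit false
set_option linter.unusedSectionVars false
set_option linter.style.haveILetI false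

namespace CfsgLib.CentralSylow

open Subgroup
open scoped commutatorElement

universe u

variable {G : Type u} [Group G] [Finite G] (hCI : CI G)
include hCI

/-- An involution of `S` fixed by the normaliser is central in a group without core. -/
theorem isolated_central (hO : Cfsg.oddCore G = ⊥) {S : Sylow 2 G} {z : G} (hz : orderOf z = 2)
    (hzS : z ∈ (S : Subgroup G))
    (hfix : ∀ n ∈ normalizer ((S : Subgroup G) : Set G), n * z * n⁻¹ = z) : z ∈ Subgroup.center G := by
  have : Fact (Nat.Prime 2) := ⟨Nat.prime_two⟩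
  have hiso : ∀ g : G, g * z * g⁻¹ ∈ S → g * z * g⁻¹ = z := fun g hg => by
    obtain ⟨n, hn, e⟩ := fusion hCI hzS hg
    rw [← e, hfix n hn]
  obtain ⟨N, hN, hNodd, hNc⟩ := Cfsg.Agent.S0215.result S z hz hzS hiso
  have hNbot : N = ⊥ := le_bot_iff.1 (hO ▸ CfsgLib.PCore.le_pPrimeCore hN (Nat.coprime_two_right.mpr hNodd))
  refine mem_center_iff.2 fun g => ?_
  have h1 := hNc g
  rw [hNbot, Subgroup.mem_bot, mul_inv_eq_one, mul_inv_eq_iff_eq_mul] at h1
  exact h1.symm

theorem commute_of_centralized {S : Sylow 2 G} (hna : NonAb G) {P : Subgroup G} (hP : Odd (Nat.card P))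
    (hSP : (S : Subgroup G) ≤ normalizer (P : Set G)) {s r : G} (hs : s ∈ (S : Subgroup G))
    (hns : ¬ CentralIn S s) (hr : r ∈ P) (hsr : s * r = r * s) :
    r ∈ centralizer ((S : Subgroup G) : Set G) := by
  have : Fact (Nat.Prime 2) := ⟨Nat.prime_two⟩
  have hn : r ∈ normalizer ((S : Subgroup G) : Set G) :=
    centralizer_le_normalizer hCI hs hns (mem_centralizer_singleton_iff.2 hsr.symm)
  refine mem_centralizer_iff.2 fun x hx => ?_
  have h1 : r * x * r⁻¹ * x⁻¹ ∈ (S : Subgroup G) ⊓ P :=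
    ⟨mul_mem ((mem_normalizer_iff.1 hn x).1 hx) ((S : Subgroup G).inv_mem hx), by
      rw [show r * x * r⁻¹ * x⁻¹ = r * (x * r⁻¹ * x⁻¹) by group]
      exact mul_mem hr ((mem_normalizer_iff.1 (hSP hx) _).1 (inv_mem hr))⟩
  rw [CfsgLib.PCore.inf_eq_bot_of_isPGroup_coprime S.2 (Nat.coprime_two_right.mpr hP),
    Subgroup.mem_bot, mul_inv_eq_one, mul_inv_eq_iff_eq_mul] at h1
  exact h1.symm

/-- The minimal case without hypothesis on the core: `P` is centralised, or `S` has cyclic derived
subgroup with a non-central involution fixed by the normaliser. -/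
theorem centralizes_step_or (hna : NonAb G) {S : Sylow 2 G} {P : Subgroup G}
    (hP : Odd (Nat.card P)) (hSP : (S : Subgroup G) ≤ normalizer (P : Set G))
    (hmin : ∀ R : Subgroup G, R < P → (S : Subgroup G) ≤ normalizer (R : Set G) →
      (S : Subgroup G) ≤ centralizer (R : Set G)) :
    (S : Subgroup G) ≤ centralizer (P : Set G) ∨
      ∃ c z : G, (∀ x ∈ (S : Subgroup G), ∀ y ∈ (S : Subgroup G), ⁅x, y⁆ ∈ zpowers c) ∧ orderOf z = 2 ∧
        z ∈ (S : Subgroup G) ∧ z ∉ Subgroup.center G ∧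
        ∀ n ∈ normalizer ((S : Subgroup G) : Set G), n * z * n⁻¹ = z := by
  classical
  have : Fact (Nat.Prime 2) := ⟨Nat.prime_two⟩
  refine or_iff_not_imp_left.2 fun hcon => ?_
  set R0 : Subgroup G := P ⊓ centralizer ((S : Subgroup G) : Set G) with hR0
  have hfull : ¬ P ≤ R0 := fun h => hcon (Subgroup.le_centralizer_iff.1 (h.trans inf_le_right))
  -- the derived subgroup of `P`
  haveI : Group.IsSolvable P := Cfsg.Agent.S0205.result hP
  have hP1 : Nontrivial P := by
    by_contra h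
    haveI := not_nontrivial_iff_subsingleton.1 h
    exact hfull fun x hx => by
      have : x = 1 := congrArg Subtype.val (Subsingleton.elim (⟨x, hx⟩ : P) 1)
      rw [this]; exact one_mem _
  have hder : ⁅P, P⁆ < P := by
    refine lt_of_le_of_ne (Subgroup.commutator_le_self P) fun e => ?_
    have h1 : (_root_.commutator P).map P.subtype = (⊤ : Subgroup P).map P.subtype := by
      rw [Subgroup.map_subtype_commutator, e, ← MonoidHom.range_eq_map, Subgroup.range_subtype]
    exact (Group.IsSolvable.commutator_lt_top_of_nontrivial P).ne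
      (Subgroup.map_injective P.subtype_injective h1)
  have hderN : (S : Subgroup G) ≤ normalizer ((⁅P, P⁆ : Subgroup G) : Set G) := by
    intro s hs
    rw [Subgroup.mem_normalizer_iff_map_conj_eq, Subgroup.map_commutator]
    rw [Subgroup.mem_normalizer_iff_map_conj_eq.1 (hSP hs)]
  have hderR : ∀ c ∈ ⁅P, P⁆, c ∈ R0 := fun c hc =>
    ⟨Subgroup.commutator_le_self P hc,
      mem_centralizer_iff.2 fun s hs => (mem_centralizer_iff.1 (hmin _ hder hderN hs) c hc).symm⟩
  have hR0N : ∀ r ∈ P, ∀ c ∈ R0, r⁻¹ * c * r ∈ R0 := fun r hr c hc => by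
    have h1 : ⁅r⁻¹, c⁆ ∈ R0 := hderR _ (Subgroup.commutator_mem_commutator (inv_mem hr) hc.1)
    have h2 := mul_mem h1 hc
    rwa [commutatorElement_def, inv_inv, inv_mul_cancel_right] at h2
  have hR0c : ∀ c ∈ R0, ∀ s ∈ (S : Subgroup G), s * c = c * s := fun c hc s hs =>
    mem_centralizer_iff.1 hc.2 s hs
  set K : Subgroup G := (S : Subgroup G) ⊓ centralizer (P : Set G) with hK
  have hKc : ∀ j ∈ K, CentralIn S j := fun j hj => by
    by_contra hn
    exact hfull fun r hr => ⟨hr, commute_of_centralized hCI hna hP hSP hj.1 hn hr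
      (mem_centralizer_iff.1 hj.2 r hr).symm⟩
  -- elements outside `K` centralise only `R0`
  have hfix : ∀ s ∈ (S : Subgroup G), s ∉ K → ∀ r ∈ P, s * r = r * s → r ∈ R0 := by
    intro s hs hsK r hr hsr
    by_cases hc : CentralIn S s
    · set Q : Subgroup G := P ⊓ centralizer ({s} : Set G) with hQ
      have hlt : Q < P := lt_of_le_of_ne inf_le_left fun e => hsK ⟨hs, mem_centralizer_iff.2 fun x hx =>
        mem_centralizer_singleton_iff.1 ((e.symm ▸ hx : x ∈ Q)).2⟩
      have hQN : (S : Subgroup G) ≤ normalizer (Q : Set G) := fun y hy => by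
        rw [hQ, Subgroup.mem_normalizer_iff]
        intro x
        have h1 : ∀ w, w ∈ centralizer ({s} : Set G) →
            y * w * y⁻¹ ∈ centralizer ({s} : Set G) := fun w hw => by
          refine mem_centralizer_singleton_iff.2 ?_
          have hys := hc y hy
          have hys' := hc y⁻¹ (inv_mem hy)
          have hw' := mem_centralizer_singleton_iff.1 hw
          calc y * w * y⁻¹ * s = y * (w * (y⁻¹ * s)) := by group
            _ = y * (w * (s * y⁻¹)) := by rw [hys']
            _ = y * (w * s) * y⁻¹ := by group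
            _ = y * (s * w) * y⁻¹ := by rw [hw']
            _ = y * s * w * y⁻¹ := by group
            _ = s * (y * w * y⁻¹) := by rw [hys]; group
        have h2 : ∀ w, y * w * y⁻¹ ∈ centralizer ({s} : Set G) → w ∈ centralizer ({s} : Set G) :=
          fun w hw => by
            refine mem_centralizer_singleton_iff.2 ?_
            have hw' := mem_centralizer_singleton_iff.1 hw
            have hys := hc y hy
            refine mul_left_cancel (a := y) (mul_right_cancel (b := y⁻¹) ?_)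
            calc y * (w * s) * y⁻¹ = y * w * y⁻¹ * (y * s * y⁻¹) := by group
              _ = y * w * y⁻¹ * s := by rw [hys]; group
              _ = s * (y * w * y⁻¹) := hw'
              _ = y * s * y⁻¹ * (y * w * y⁻¹) := by rw [hys]; group
              _ = y * (s * w) * y⁻¹ := by group
        exact ⟨fun hx => ⟨(mem_normalizer_iff.1 (hSP hy) x).1 hx.1, h1 x hx.2⟩,
          fun hx => ⟨(mem_normalizer_iff.1 (hSP hy) x).2 hx.1, h2 x hx.2⟩⟩
      have hrQ : r ∈ Q := ⟨hr, mem_centralizer_singleton_iff.2 hsr.symm⟩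
      exact ⟨hr, mem_centralizer_iff.2 fun x hx =>
        (mem_centralizer_iff.1 (hmin Q hlt hQN hx) r hrQ).symm⟩
    · exact ⟨hr, commute_of_centralized hCI hna hP hSP hs hc hr hsr⟩
  have hoddR0 : ∀ c ∈ R0, c * c = 1 → c = 1 := fun c hc e => by
    have h1 : orderOf c ∣ 2 := orderOf_dvd_of_pow_eq_one (by rw [sq, e])
    have h2 : orderOf c ∣ Nat.card P := Subgroup.orderOf_dvd_natCard P hc.1
    exact orderOf_eq_one_iff.1 (Nat.eq_one_of_dvd_coprimes (Nat.coprime_two_left.mpr hP) h1 h2)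
  have hconjP : ∀ s ∈ (S : Subgroup G), ∀ r ∈ P, s * r * s⁻¹ ∈ P := fun s hs r hr =>
    (mem_normalizer_iff.1 (hSP hs) r).1 hr
  -- an involution of `S / K` inverts `P / R0`
  have hinv : ∀ s ∈ (S : Subgroup G), s * s ∈ K → s ∉ K → ∀ r ∈ P, r * (s * r * s⁻¹) ∈ R0 := by
    intro s hs hss hsK r hr
    set r' := s * r * s⁻¹ with hr'
    have hr'P : r' ∈ P := hconjP s hs r hr
    have hssr : s * r' * s⁻¹ = r := by
      calc s * r' * s⁻¹ = s * s * r * (s * s)⁻¹ := by rw [hr']; group
        _ = r := by rw [← (mem_centralizer_iff.1 hss.2 r hr), mul_inv_cancel_right]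
    set y := r * r' with hy
    have hyP : y ∈ P := mul_mem hr hr'P
    set c := y⁻¹ * (s * y * s⁻¹) with hc
    have hcR : c ∈ R0 := by
      have e : c = ⁅r'⁻¹, r⁻¹⁆ := by
        calc c = (r * r')⁻¹ * ((s * r * s⁻¹) * (s * r' * s⁻¹)) := by rw [hc, hy]; group
          _ = (r * r')⁻¹ * (r' * r) := by rw [hssr]
          _ = ⁅r'⁻¹, r⁻¹⁆ := by rw [commutatorElement_def]; group
      rw [e]
      exact hderR _ (Subgroup.commutator_mem_commutator (inv_mem hr'P) (inv_mem hr))
    have hsc : s * c = c * s := hR0c c hcR s hs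
    have hsy : s * y * s⁻¹ = y * c := by rw [hc]; group
    have hc1 : c = 1 := by
      refine hoddR0 c hcR (mul_left_cancel (a := y) ?_)
      calc y * (c * c) = s * y * s⁻¹ * c := by rw [hsy]; group
        _ = s * (y * c) * s⁻¹ := by
          have hsc' : s⁻¹ * c = c * s⁻¹ := hR0c c hcR s⁻¹ (inv_mem hs)
          rw [mul_assoc, hsc']; group
        _ = s * s * y * (s * s)⁻¹ := by rw [← hsy]; group
        _ = y * 1 := by rw [← (mem_centralizer_iff.1 hss.2 y hyP), mul_inv_cancel_right, mul_one]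
    rw [hc1, mul_one, mul_inv_eq_iff_eq_mul] at hsy
    exact hfix s hs hsK y hyP hsy
  have hprod : ∀ s ∈ (S : Subgroup G), ∀ w ∈ (S : Subgroup G), s * s ∈ K → w * w ∈ K → s ∉ K → w ∉ K →
      s * w ∈ K := by
    intro s hs w hw hss hww hsK hwK
    refine ⟨mul_mem hs hw, mem_centralizer_iff.2 fun r hr => ?_⟩
    set u := s * w with hu
    obtain ⟨a1, ha1, e1⟩ : ∃ a1 ∈ R0, w * r * w⁻¹ = r⁻¹ * a1 :=
      ⟨r * (w * r * w⁻¹), hinv w hw hww hwK r hr, by group⟩
    obtain ⟨a2, ha2, e2⟩ : ∃ a2 ∈ R0, s * r * s⁻¹ = r⁻¹ * a2 :=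
      ⟨r * (s * r * s⁻¹), hinv s hs hss hsK r hr, by group⟩
    set c := r⁻¹ * (u * r * u⁻¹) with hc
    have hcR : c ∈ R0 := by
      have h1 : u * r * u⁻¹ = a2⁻¹ * r * a1 := by
        calc u * r * u⁻¹ = s * (w * r * w⁻¹) * s⁻¹ := by rw [hu]; group
          _ = (s * r * s⁻¹)⁻¹ * (s * a1 * s⁻¹) := by rw [e1]; group
          _ = (r⁻¹ * a2)⁻¹ * (a1 * s * s⁻¹) := by rw [e2, hR0c a1 ha1 s hs]
          _ = a2⁻¹ * r * a1 := by group
      rw [hc, h1, ← mul_assoc]
      refine mul_mem ?_ ha1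
      rw [← mul_assoc]
      exact hR0N r hr _ (inv_mem ha2)
    have huS : u ∈ (S : Subgroup G) := mul_mem hs hw
    have hpow : ∀ n : ℕ, u ^ n * r * (u ^ n)⁻¹ = r * c ^ n := by
      intro n
      induction n with
      | zero => simp
      | succ n ih =>
        have h1 : u * r * u⁻¹ = r * c := by rw [hc]; group
        have h2 : u ^ n * c = c * u ^ n := hR0c c hcR _ (pow_mem huS n)
        calc u ^ (n + 1) * r * (u ^ (n + 1))⁻¹ = u ^ n * (u * r * u⁻¹) * (u ^ n)⁻¹ := by group
          _ = u ^ n * r * (u ^ n)⁻¹ * (u ^ n * c * (u ^ n)⁻¹) := by rw [h1]; group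
          _ = r * c ^ n * c := by rw [ih, h2, mul_inv_cancel_right]
          _ = r * c ^ (n + 1) := by rw [pow_succ, mul_assoc]
    have hn := hpow (orderOf u)
    rw [pow_orderOf_eq_one, one_mul, inv_one, mul_one, left_eq_mul] at hn
    obtain ⟨k, hk⟩ := IsPGroup.iff_orderOf.1 S.2 ⟨u, huS⟩
    rw [Subgroup.orderOf_mk] at hk
    have hc1 : c = 1 := orderOf_eq_one_iff.1 (Nat.eq_one_of_dvd_coprimes
      ((Nat.coprime_two_left.mpr hP).pow_left k) (hk ▸ orderOf_dvd_of_pow_eq_one hn)
      (Subgroup.orderOf_dvd_natCard P hcR.1))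
    rw [hc, inv_mul_eq_one, eq_mul_inv_iff_mul_eq] at hc1
    exact hc1
  -- the quotient `S / K` has one involution
  let KS : Subgroup (S : Subgroup G) := K.subgroupOf S
  haveI : KS.Normal := ⟨fun j hj y => by
    have h1 : (y : G) * j = j * y := hKc _ hj y y.2
    show (y : G) * j * (y : G)⁻¹ ∈ K
    rw [h1, mul_inv_cancel_right]; exact hj⟩
  have hone : ∀ a b : (S : Subgroup G) ⧸ KS, orderOf a = 2 → orderOf b = 2 → a = b := by
    intro a b ha hb
    obtain ⟨s, rfl⟩ := QuotientGroup.mk_surjective a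
    obtain ⟨w, rfl⟩ := QuotientGroup.mk_surjective b
    have aux : ∀ x : (S : Subgroup G), orderOf (x : (S : Subgroup G) ⧸ KS) = 2 →
        (x : G) * x ∈ K ∧ (x : G) ∉ K := fun x hx => by
      refine ⟨?_, fun h => ?_⟩
      · have h1 := pow_orderOf_eq_one (x : (S : Subgroup G) ⧸ KS)
        rw [hx, sq, ← QuotientGroup.mk_mul, QuotientGroup.eq_one_iff] at h1
        exact h1
      · rw [(QuotientGroup.eq_one_iff x).2 h, orderOf_one] at hx
        exact absurd hx (by norm_num)
    obtain ⟨hs2, hs1⟩ := aux s ha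
    obtain ⟨hw2, hw1⟩ := aux w hb
    have h1 : s * w ∈ KS := hprod s s.2 w w.2 hs2 hw2 hs1 hw1
    have h2 : (s : (S : Subgroup G) ⧸ KS) * (w : (S : Subgroup G) ⧸ KS) = 1 := by
      rw [← QuotientGroup.mk_mul]; exact (QuotientGroup.eq_one_iff _).2 h1
    have h3 : (w : (S : Subgroup G) ⧸ KS)⁻¹ = w := inv_eq_of_mul_eq_one_right (by
      rw [← sq]; exact orderOf_dvd_iff_pow_eq_one.1 hb.dvd)
    rw [eq_inv_of_mul_eq_one_left h2, h3]
  have hQ2 : IsPGroup 2 ((S : Subgroup G) ⧸ KS) := S.2.to_quotient KS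
  obtain ⟨a0, ha0, b0, hb0, hab⟩ := hna S
  rcases CfsgLib.TwoGroups.OneInvolution.isCyclic_or_quaternion hQ2 hone with hcyc | ⟨n, hn, ⟨e⟩⟩
  · obtain ⟨g, hg⟩ := hcyc.exists_generator
    obtain ⟨g', rfl⟩ := QuotientGroup.mk_surjective g
    have hdec : ∀ x : (S : Subgroup G), ∃ (i : ℤ) (j : G), j ∈ K ∧ (x : G) = (g' : G) ^ i * j := by
      intro x
      obtain ⟨i, hi⟩ := Subgroup.mem_zpowers_iff.1 (hg (x : (S : Subgroup G) ⧸ KS))
      rw [← QuotientGroup.mk_zpow, QuotientGroup.eq] at hi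
      exact ⟨i, _, hi, by simp⟩
    obtain ⟨i, j, hj, hai⟩ := hdec ⟨a0, ha0⟩
    obtain ⟨i', j', hj', hbi⟩ := hdec ⟨b0, hb0⟩
    refine absurd ?_ hab
    simp only at hai hbi
    have c1 : Commute ((g' : G) ^ i) j' := hKc _ hj' _ (zpow_mem g'.2 i)
    have c2 : Commute ((g' : G) ^ i') j := hKc _ hj _ (zpow_mem g'.2 i')
    have c3 : Commute j j' := hKc _ hj' j hj.1
    have c4 : Commute ((g' : G) ^ i) ((g' : G) ^ i') := (Commute.refl (g' : G)).zpow_zpow i i'
    rw [hai, hbi]
    exact ((c4.mul_right c1).mul_left (c2.symm.mul_right c3)).eq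
  · -- the generalised quaternion case
    set m := 2 ^ n with hm
    haveI : NeZero m := ⟨by positivity⟩
    obtain ⟨A, hA⟩ := QuotientGroup.mk_surjective (e.symm (QuaternionGroup.a 1))
    obtain ⟨B, hB⟩ := QuotientGroup.mk_surjective (e.symm (QuaternionGroup.xa 0))
    have heA : e (A : (S : Subgroup G) ⧸ KS) = QuaternionGroup.a 1 := by rw [hA, MulEquiv.apply_symm_apply]
    have heB : e (B : (S : Subgroup G) ⧸ KS) = QuaternionGroup.xa 0 := by rw [hB, MulEquiv.apply_symm_apply]
    have hmemK : ∀ x : (S : Subgroup G), e (x : (S : Subgroup G) ⧸ KS) = 1 → (x : G) ∈ K := fun x hx => by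
      rw [map_eq_one_iff _ e.injective, QuotientGroup.eq_one_iff] at hx
      exact hx
    set j : G := (B : G) * A * (B : G)⁻¹ * A with hj
    have hjK : j ∈ K := hmemK (B * A * B⁻¹ * A) (by
      have hq : (QuaternionGroup.xa 0 : QuaternionGroup m) * QuaternionGroup.a 1 * (QuaternionGroup.xa 0)⁻¹ =
          QuaternionGroup.a (-1) := by
        rw [mul_inv_eq_iff_eq_mul, QuaternionGroup.xa_mul_a, QuaternionGroup.a_mul_xa]
        simp
      simp only [QuotientGroup.mk_mul, QuotientGroup.mk_inv, map_mul, map_inv, heA, heB]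
      rw [hq, QuaternionGroup.a_mul_a, neg_add_cancel]
      rfl)
    have hbb : (B : G) * B * ((A : G) ^ m)⁻¹ ∈ K := hmemK (B * B * (A ^ m)⁻¹) (by
      simp only [QuotientGroup.mk_mul, QuotientGroup.mk_inv, QuotientGroup.mk_pow, map_mul, map_inv, map_pow,
        heA, heB, QuaternionGroup.xa_mul_xa, QuaternionGroup.a_one_pow, add_zero, sub_zero, mul_inv_cancel])
    have hAm : (A : G) ^ m ∉ K := fun h => by
      have h0 : (A : (S : Subgroup G) ⧸ KS) ^ m = 1 := by
        rw [← QuotientGroup.mk_pow, QuotientGroup.eq_one_iff]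
        show ((A ^ m : (S : Subgroup G)) : G) ∈ K
        rw [Subgroup.coe_pow]; exact h
      have h1 := congrArg e h0
      rw [map_pow, heA, map_one, ← orderOf_dvd_iff_pow_eq_one, QuaternionGroup.orderOf_a_one] at h1
      exact absurd (Nat.le_of_dvd (NeZero.pos m) h1) (by have := NeZero.pos m; omega)
    have hcj : ∀ x ∈ (S : Subgroup G), Commute x j := fun x hx => hKc j hjK x hx
    have hBA : (B : G) * A * (B : G)⁻¹ = j * (A : G)⁻¹ := by rw [hj]; group
    have hBAm : (B : G) * (A : G) ^ m * (B : G)⁻¹ = (A : G) ^ m := by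
      set k := (B : G) * B * ((A : G) ^ m)⁻¹ with hk
      have h1 : Commute (B : G) k := hKc k hbb B B.2
      have h2 : (A : G) ^ m = k⁻¹ * ((B : G) * B) := by rw [hk]; group
      have h3 : Commute (B : G) ((A : G) ^ m) := by
        rw [h2]; exact h1.inv_right.mul_right ((Commute.refl _).mul_right (Commute.refl _))
      rw [h3.eq, mul_inv_cancel_right]
    set c : G := (A : G) * A * j⁻¹ with hc
    have hcS : c ∈ (S : Subgroup G) := mul_mem (mul_mem A.2 A.2) (inv_mem hjK.1)
    have hcm : c ^ m = 1 := by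
      have h1 : (B : G) * (A : G) ^ m * (B : G)⁻¹ = j ^ m * ((A : G) ^ m)⁻¹ := by
        rw [← conj_pow, hBA, ((hcj _ A.2).symm.inv_right).mul_pow, inv_pow]
      rw [hBAm, eq_mul_inv_iff_mul_eq] at h1
      rw [hc, (((hcj _ A.2).mul_left (hcj _ A.2)).inv_right).mul_pow, inv_pow, (Commute.refl (A : G)).mul_pow,
        h1, mul_inv_cancel]
    obtain ⟨n', rfl⟩ : ∃ n', n = n' + 1 := ⟨n - 1, by omega⟩
    set z : G := c ^ (2 ^ n') with hz
    have hzK : z ∉ K := fun h => hAm (by
      have h2 : z = (A : G) ^ m * (j⁻¹) ^ (2 ^ n') := by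
        rw [hz, hc, (((hcj _ A.2).mul_left (hcj _ A.2)).inv_right).mul_pow, ← sq, ← pow_mul, hm, pow_succ']
      rw [h2] at h
      have h3 := mul_mem h (inv_mem (K.pow_mem (inv_mem hjK) (2 ^ n')))
      rwa [mul_inv_cancel_right] at h3)
    have hz1 : z ≠ 1 := fun h => hzK (h ▸ one_mem K)
    have hzz : z * z = 1 := by rw [hz, ← pow_add, ← two_mul, ← pow_succ', ← hm]; exact hcm
    -- all commutators of `S` are powers of `c`
    let C : Subgroup G := zpowers c
    have hcc : ∀ x ∈ (S : Subgroup G), x * c * x⁻¹ ∈ C := by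
      have hA' : (A : G) * c * (A : G)⁻¹ = c := by
        have : Commute (A : G) c := ((Commute.refl _).mul_right (Commute.refl _)).mul_right (hcj _ A.2).inv_right
        rw [this.eq, mul_inv_cancel_right]
      have hB' : (B : G) * c * (B : G)⁻¹ = c⁻¹ := by
        have hAj : Commute (A : G) j := hcj _ A.2
        calc (B : G) * c * (B : G)⁻¹ = ((B : G) * A * (B : G)⁻¹) * ((B : G) * A * (B : G)⁻¹) *
              ((B : G) * j⁻¹ * (B : G)⁻¹) := by rw [hc]; group
          _ = j * (A : G)⁻¹ * (j * (A : G)⁻¹) * j⁻¹ := by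
              rw [show (B : G) * j⁻¹ * (B : G)⁻¹ = j⁻¹ from mul_inv_eq_iff_eq_mul.2 (hcj _ B.2).inv_right.eq,
                hBA]
          _ = j * ((A : G)⁻¹ * (A : G)⁻¹) := by
              rw [mul_assoc j (A : G)⁻¹, show (A : G)⁻¹ * (j * (A : G)⁻¹) = (A : G)⁻¹ * (A : G)⁻¹ * j by
                rw [← hAj.inv_left.eq, mul_assoc]]
              group
          _ = c⁻¹ := by rw [hc]; group
      intro x hx
      let Nc : Subgroup G := normalizer (C : Set G)
      suffices h : x ∈ Nc from (mem_normalizer_iff.1 h c).1 (mem_zpowers c)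
      have hgen : ∀ w : G, (w * c * w⁻¹ = c ∨ w * c * w⁻¹ = c⁻¹) → w ∈ Nc := fun w hw => by
        refine Subgroup.mem_normalizer_iff_map_conj_eq.2 ?_
        rw [MonoidHom.map_zpowers]
        rcases hw with h | h
        · simp [C, h]
        · simp [C, h, Subgroup.zpowers_inv]
      obtain ⟨q, hq⟩ : ∃ q, e ((⟨x, hx⟩ : (S : Subgroup G)) : (S : Subgroup G) ⧸ KS) = q := ⟨_, rfl⟩
      have hAN : (A : G) ∈ Nc := hgen _ (Or.inl hA')
      have hBN : (B : G) ∈ Nc := hgen _ (Or.inr hB')
      have hKN : ∀ k ∈ K, k ∈ Nc := fun k hk => hgen _ (Or.inl (by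
        rw [← hKc k hk c hcS, mul_inv_cancel_right]))
      rcases q with i | i
      · have h1 := hmemK ((A ^ i.val)⁻¹ * ⟨x, hx⟩) (by
          simp only [QuotientGroup.mk_mul, QuotientGroup.mk_inv, QuotientGroup.mk_pow, map_mul, map_inv,
            map_pow, heA, hq, QuaternionGroup.a_one_pow, ZMod.natCast_zmod_val, inv_mul_cancel])
        have h2 := mul_mem (pow_mem hAN i.val) (hKN _ h1)
        simpa [mul_assoc] using h2
      · have h1 := hmemK ((B * A ^ i.val)⁻¹ * ⟨x, hx⟩) (by
          simp only [QuotientGroup.mk_mul, QuotientGroup.mk_inv, QuotientGroup.mk_pow, map_mul, map_inv,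
            map_pow, heA, heB, hq, QuaternionGroup.a_one_pow, ZMod.natCast_zmod_val, QuaternionGroup.xa_mul_a,
            zero_add, inv_mul_cancel])
        have h2 := mul_mem (mul_mem hBN (pow_mem hAN i.val)) (hKN _ h1)
        simpa [mul_assoc] using h2
    have hcomm : ∀ x ∈ (S : Subgroup G), ∀ y ∈ (S : Subgroup G), x * y * x⁻¹ * y⁻¹ ∈ C := by
      let CS : Subgroup (S : Subgroup G) := C.subgroupOf S
      haveI : CS.Normal := ⟨fun w hw y => by
        obtain ⟨i, hi⟩ := Subgroup.mem_zpowers_iff.1 (show (w : G) ∈ C from hw)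
        show (y : G) * w * (y : G)⁻¹ ∈ C
        rw [← hi, ← conj_zpow]
        exact zpow_mem (hcc y y.2) i⟩
      let f := QuotientGroup.mk' CS
      have hfK : ∀ (k : (S : Subgroup G)), (k : G) ∈ K → ∀ y, Commute (f k) (f y) := fun k hk y =>
        (show Commute k y from Subtype.ext (hKc _ hk y y.2).symm).map f
      have hfAB : Commute (f B) (f A) := by
        have h1 : f (B * A * B⁻¹ * A⁻¹) = 1 := (QuotientGroup.eq_one_iff _).2 (by
          show (B : G) * A * (B : G)⁻¹ * (A : G)⁻¹ ∈ C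
          have : (B : G) * A * (B : G)⁻¹ * (A : G)⁻¹ = c⁻¹ := by rw [hBA, hc]; group
          rw [this]; exact inv_mem (mem_zpowers c))
        rw [map_mul, map_mul, map_mul, map_inv, map_inv, mul_inv_eq_one, mul_inv_eq_iff_eq_mul] at h1
        exact h1
      have hall : ∀ x : (S : Subgroup G), ∃ (k : (S : Subgroup G)) (i : ℕ) (l : Bool), (k : G) ∈ K ∧
          x = (if l then B * A ^ i else A ^ i) * k := by
        intro x
        obtain ⟨q, hq⟩ : ∃ q, e (x : (S : Subgroup G) ⧸ KS) = q := ⟨_, rfl⟩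
        rcases q with i | i
        · exact ⟨(A ^ i.val)⁻¹ * x, i.val, false, hmemK _ (by
            simp only [QuotientGroup.mk_mul, QuotientGroup.mk_inv, QuotientGroup.mk_pow, map_mul, map_inv,
              map_pow, heA, hq, QuaternionGroup.a_one_pow, ZMod.natCast_zmod_val, inv_mul_cancel]), by simp⟩
        · exact ⟨(B * A ^ i.val)⁻¹ * x, i.val, true, hmemK _ (by
            simp only [QuotientGroup.mk_mul, QuotientGroup.mk_inv, QuotientGroup.mk_pow, map_mul, map_inv,
              map_pow, heA, heB, hq, QuaternionGroup.a_one_pow, ZMod.natCast_zmod_val, QuaternionGroup.xa_mul_a,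
              zero_add, inv_mul_cancel]), by simp [mul_assoc]⟩
      intro x hx y hy
      obtain ⟨k, i, l, hk, hxe⟩ := hall ⟨x, hx⟩
      obtain ⟨k', i', l', hk', hye⟩ := hall ⟨y, hy⟩
      have hfx : Commute (f ⟨x, hx⟩) (f ⟨y, hy⟩) := by
        rw [hxe, hye, map_mul, map_mul]
        refine (Commute.mul_right ?_ (hfK k' hk' _).symm).mul_left
          ((hfK k hk _).mul_right (hfK k hk _))
        cases l <;> cases l' <;> simp only [Bool.false_eq_true, if_false, if_true, map_mul, map_pow]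
        · exact (Commute.refl (f A)).pow_pow i i'
        · exact (hfAB.symm.pow_left i).mul_right ((Commute.refl (f A)).pow_pow i i')
        · exact (hfAB.pow_right i').mul_left ((Commute.refl (f A)).pow_pow i i')
        · exact ((Commute.refl (f B)).mul_right (hfAB.pow_right i')).mul_left
            ((hfAB.symm.pow_left i).mul_right ((Commute.refl (f A)).pow_pow i i'))
      have h1 : f (⟨x, hx⟩ * ⟨y, hy⟩ * ⟨x, hx⟩⁻¹ * ⟨y, hy⟩⁻¹) = 1 := by
        rw [map_mul, map_mul, map_mul, map_inv, map_inv, hfx.eq, mul_inv_cancel_right, mul_inv_cancel]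
      exact (QuotientGroup.eq_one_iff (N := CS) _).1 h1
    have hzC : ∀ g ∈ C, orderOf g = 2 → g = z := by
      intro g hg hg2
      obtain ⟨i, rfl⟩ := Subgroup.mem_zpowers_iff.1 hg
      have hord : orderOf c = 2 * 2 ^ n' := by
        rw [← pow_succ']
        exact orderOf_eq_prime_pow (by rw [← hz]; exact hz1) (by rw [← hm]; exact hcm)
      have h2 : c ^ (2 * i) = 1 := by
        rw [mul_comm, zpow_mul, zpow_ofNat, ← hg2, pow_orderOf_eq_one]
      obtain ⟨q, hq⟩ := orderOf_dvd_iff_zpow_eq_one.2 h2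
      rw [hord] at hq
      push_cast at hq
      have hi : i = 2 ^ n' * q := by linarith
      rw [hi, zpow_mul, show ((2 : ℤ) ^ n') = ((2 ^ n' : ℕ) : ℤ) by push_cast; rfl, zpow_natCast, ← hz]
      rcases Int.even_or_odd q with ⟨w, hw⟩ | ⟨w, hw⟩
      · exfalso
        have : c ^ i = 1 := by
          rw [hi, zpow_mul, show ((2 : ℤ) ^ n') = ((2 ^ n' : ℕ) : ℤ) by push_cast; rfl, zpow_natCast, ← hz, hw,
            ← two_mul, zpow_mul, zpow_ofNat, sq, hzz, one_zpow]
        rw [this, orderOf_one] at hg2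
        exact absurd hg2 (by norm_num)
      · rw [hw, zpow_add, zpow_mul, zpow_ofNat, sq, hzz, one_zpow, zpow_one, one_mul]
    have hz2 : orderOf z = 2 := orderOf_eq_prime (by rw [sq, hzz]) hz1
    have hfixz : ∀ g ∈ normalizer ((S : Subgroup G) : Set G), g * z * g⁻¹ = z := by
      intro g hg
      have hBz : (B : G) * A * (B : G)⁻¹ * (A : G)⁻¹ = c⁻¹ := by rw [hBA, hc]; group
      have hgS : ∀ x ∈ (S : Subgroup G), g * x * g⁻¹ ∈ (S : Subgroup G) := fun x hx =>
        (mem_normalizer_iff.1 hg x).1 hx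
      have h1 : g * c⁻¹ * g⁻¹ ∈ C := by
        rw [← hBz, show g * ((B : G) * A * (B : G)⁻¹ * (A : G)⁻¹) * g⁻¹ = g * B * g⁻¹ * (g * A * g⁻¹) *
          (g * B * g⁻¹)⁻¹ * (g * A * g⁻¹)⁻¹ by group]
        exact hcomm _ (hgS _ B.2) _ (hgS _ A.2)
      refine hzC _ ?_ ((CfsgLib.Involutions.orderOf_conj_eq g z).trans hz2)
      rw [hz, ← conj_pow]
      refine pow_mem ?_ _
      have h2 := inv_mem h1
      simpa [mul_assoc] using h2
    refine ⟨c, z, fun x hx y hy => ?_, hz2, pow_mem hcS _, fun h => hzK ⟨pow_mem hcS _,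
      mem_centralizer_iff.2 fun r _ => mem_center_iff.1 h r⟩, hfixz⟩
    rw [commutatorElement_def]
    exact hcomm x hx y hy

/-- The minimal case: a Sylow subgroup normalising `P` and centralising all smaller invariant
subgroups of `P` centralises `P`. -/
theorem centralizes_step (hna : NonAb G) (hO : Cfsg.oddCore G = ⊥) {S : Sylow 2 G} {P : Subgroup G}
    (hP : Odd (Nat.card P)) (hSP : (S : Subgroup G) ≤ normalizer (P : Set G))
    (hmin : ∀ R : Subgroup G, R < P → (S : Subgroup G) ≤ normalizer (R : Set G) →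
      (S : Subgroup G) ≤ centralizer (R : Set G)) :
    (S : Subgroup G) ≤ centralizer (P : Set G) :=
  (centralizes_step_or hCI hna hP hSP hmin).resolve_right fun ⟨_, _, _, hz, hzS, hzc, hfix⟩ =>
    hzc (isolated_central hCI hO hz hzS hfix)

/-- **Lemma A**: a Sylow 2-subgroup centralises the odd order subgroups it normalises. -/
theorem centralizes_odd (hna : NonAb G) (hO : Cfsg.oddCore G = ⊥) {S : Sylow 2 G} (P : Subgroup G)
    (hP : Odd (Nat.card P)) (hSP : (S : Subgroup G) ≤ normalizer (P : Set G)) :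
    (S : Subgroup G) ≤ centralizer (P : Set G) := by
  induction P using WellFoundedLT.induction with
  | _ P ih =>
    exact centralizes_step hCI hna hO hP hSP fun R hR hRN =>
      ih R hR (hP.of_dvd_nat (Subgroup.card_dvd_of_le hR.le)) hRN

end CfsgLib.CentralSylow
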