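import Cfsg.Agent.Lib.CentralSylow.Reduce
import Cfsg.Agent.Lib.CentralSylow.Covers

/-!
The non-trivial intersections of Sylow 2-subgroups ("pieces"): below a minimal counterexample each element
outside `O_2` lies in one piece only, and modulo a piece and the odd core the centraliser of the piece is a
central extension of a simple group of Bender type.
-/

set_option autoImplicit false
set_option linter.unusedSectionVars false
set_option linter.style.haveILetI false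

namespace CfsgLib.CentralSylow

open Subgroup Pointwise CfsgLib.BenderQ
open scoped commutatorElement

universe u

/-- The statement to prove, for all groups of order less than `n`. -/
def Below (n : ℕ) : Prop :=
  ∀ (H : Type u) [Group H] [Finite H], Nat.card H < n → CI H → NonAb H → Cfsg.oddCore H = ⊥ →
    ∀ S T : Sylow 2 H, S ≠ T → (S : Subgroup H) ⊓ (T : Subgroup H) ≤ Cfsg.pCore 2 H

variable {G : Type u} [Group G] [Finite G] (hCI : CI G) (hna : NonAb G) (hO : Cfsg.oddCore G = ⊥)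
include hCI hna hO

/-- An element outside `O_2` lies in one piece only. -/
theorem mem_of_mem_inter (ih : Below.{u} (Nat.card G)) {S T : Sylow 2 G} (hne : S ≠ T) {w x : G}
    (hwS : w ∈ (S : Subgroup G)) (hwT : w ∈ (T : Subgroup G)) (hw : w ∉ Cfsg.pCore 2 G)
    (hxS : x ∈ (S : Subgroup G)) (hxT : x ∈ (T : Subgroup G)) {R : Sylow 2 G}
    (hwR : w ∈ (R : Subgroup G)) : x ∈ (R : Subgroup G) := by
  have : Fact (Nat.Prime 2) := ⟨Nat.prime_two⟩
  set K : Subgroup G := centralizer ({w} : Set G) with hK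
  have hle : ∀ U : Sylow 2 G, w ∈ (U : Subgroup G) → (U : Subgroup G) ≤ K := fun U hU => by
    have hc : CentralIn U w := by
      by_cases h : U = S
      · exact h ▸ central hCI hne hwS hwT
      · exact central hCI h hU hwS
    exact fun u hu => mem_centralizer_singleton_iff.2 (hc u hu)
  have hwc : w ∉ center G := fun hc => by
    haveI : (zpowers w).Normal := ⟨fun y hy g => by
      rwa [mem_center_iff.1 (zpowers_le.2 hc hy) g, mul_inv_cancel_right]⟩
    exact hw (CfsgLib.PCore.le_pCore inferInstance (S.2.to_le (zpowers_le.2 hwS)) (mem_zpowers w))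
  obtain ⟨O, hOdef⟩ : ∃ O, O = Cfsg.oddCore K := ⟨_, rfl⟩
  haveI : O.Normal := hOdef ▸ Cfsg.pPrimeCore_normal 2 K
  have hcard : Nat.card (K ⧸ O) < Nat.card G := by
    refine lt_of_le_of_lt (Subgroup.card_quotient_dvd_card O |> Nat.le_of_dvd Nat.card_pos) ?_
    refine lt_of_le_of_ne (Subgroup.card_le_card_group K) fun e => hwc (mem_center_iff.2 fun g => ?_)
    exact mem_centralizer_singleton_iff.1
      ((Subgroup.card_eq_iff_eq_top K).1 e ▸ Subgroup.mem_top g : g ∈ K)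
  have hKCI : CI K := ci_subgroup hCI K S (hle S hwS)
  let π := QuotientGroup.mk' O
  let img : (U : Sylow 2 G) → (U : Subgroup G) ≤ K → Sylow 2 (K ⧸ O) := fun U hU =>
    (U.subtype hU).mapSurjective (QuotientGroup.mk'_surjective O)
  have hback : ∀ (U : Sylow 2 G) (hU : (U : Subgroup G) ≤ K) (y : K) (k : ℕ), (y : G) ^ 2 ^ k = 1 →
      π y ∈ (img U hU : Subgroup (K ⧸ O)) → (y : G) ∈ (U : Subgroup G) := by
    intro U hU y k hk hy
    obtain ⟨r, hr, e⟩ := hy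
    have ho : r⁻¹ * y ∈ O := QuotientGroup.eq.1 e
    exact mem_of_eq_mul hCI hna hO hU (r := (r : G)) (o := ((r⁻¹ * y : K) : G)) hr
      ⟨_, hOdef ▸ ho, rfl⟩ (by simp) hk
  have hQna : NonAb (K ⧸ O) := fun U => by
    obtain ⟨U', rfl⟩ := Sylow.mapSurjective_surjective (QuotientGroup.mk'_surjective O) 2 U
    obtain ⟨a, ha, b, hb, hab⟩ := na_subgroup hna (hle S hwS) U'
    refine ⟨π a, ⟨a, ha, rfl⟩, π b, ⟨b, hb, rfl⟩, fun h => hab ?_⟩
    have h1 : (a * b) * (b * a)⁻¹ ∈ (U' : Subgroup K) ⊓ O := by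
      refine Subgroup.mem_inf.2 ⟨mul_mem (mul_mem ha hb) (inv_mem (mul_mem hb ha)),
        (QuotientGroup.eq_one_iff _).1 ?_⟩
      show π (a * b * (b * a)⁻¹) = 1
      rw [map_mul, map_inv, map_mul, map_mul, h, mul_inv_cancel]
    rw [hOdef, CfsgLib.PCore.inf_eq_bot_of_isPGroup_coprime U'.2 CfsgLib.PCore.pPrimeCore_coprime,
      Subgroup.mem_bot, mul_inv_eq_one] at h1
    exact h1
  have hne' : img S (hle S hwS) ≠ img T (hle T hwT) := fun e => hne <| by
    have hST : (S : Subgroup G) ≤ (T : Subgroup G) := fun s hs => by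
      obtain ⟨k, hk⟩ := mem_two_pow hs
      exact hback T (hle T hwT) ⟨s, hle S hwS hs⟩ k hk (e ▸ ⟨⟨s, hle S hwS hs⟩, hs, rfl⟩)
    exact Sylow.ext ((S.3 T.2 hST).symm)
  have hx' : π ⟨x, hle S hwS hxS⟩ ∈ Cfsg.pCore 2 (K ⧸ O) :=
    ih (K ⧸ O) hcard (ci_quotient hKCI O) hQna
      (by subst hOdef; exact CfsgLib.PCore.pPrimeCore_quotient_pPrimeCore) _ _ hne'
      ⟨⟨_, hxS, rfl⟩, ⟨⟨x, hle T hwT hxT⟩, hxT, rfl⟩⟩
  obtain ⟨k, hk⟩ := mem_two_pow hxS
  exact hback R (hle R hwR) ⟨x, hle S hwS hxS⟩ k hk (CfsgLib.PCore.pCore_le_sylow _ hx')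

/-- Two pieces with a common element outside `O_2` are equal. -/
theorem piece_eq (ih : Below.{u} (Nat.card G)) {S T S' T' : Sylow 2 G} (hne : S ≠ T) (hne' : S' ≠ T')
    {w : G} (h1 : w ∈ (S : Subgroup G) ⊓ (T : Subgroup G)) (h2 : w ∈ (S' : Subgroup G) ⊓ (T' : Subgroup G))
    (hw : w ∉ Cfsg.pCore 2 G) :
    (S : Subgroup G) ⊓ (T : Subgroup G) = (S' : Subgroup G) ⊓ (T' : Subgroup G) :=
  le_antisymm
    (fun _ hx => ⟨mem_of_mem_inter hCI hna hO ih hne h1.1 h1.2 hw hx.1 hx.2 h2.1,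
      mem_of_mem_inter hCI hna hO ih hne h1.1 h1.2 hw hx.1 hx.2 h2.2⟩)
    (fun _ hx => ⟨mem_of_mem_inter hCI hna hO ih hne' h2.1 h2.2 hw hx.1 hx.2 h1.1,
      mem_of_mem_inter hCI hna hO ih hne' h2.1 h2.2 hw hx.1 hx.2 h1.2⟩)

/-- The centraliser of a piece, modulo the piece and the odd core. -/
theorem piece (hR : RankOneClass.{u}) (ih : Below.{u} (Nat.card G)) {S T : Sylow 2 G} (hne : S ≠ T)
    (hJ : ¬ (S : Subgroup G) ⊓ (T : Subgroup G) ≤ Cfsg.pCore 2 G) :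
    (∀ a ∈ (S : Subgroup G), ∀ b ∈ (S : Subgroup G), a ∉ (T : Subgroup G) → b ∉ (T : Subgroup G) →
      a * a ∈ (T : Subgroup G) → b * b ∈ (T : Subgroup G) →
      ∃ n ∈ normalizer ((S : Subgroup G) : Set G),
        (∀ j ∈ (S : Subgroup G) ⊓ (T : Subgroup G), n * j = j * n) ∧
        b⁻¹ * (n * a * n⁻¹) ∈ (S : Subgroup G) ⊓ (T : Subgroup G)) ∧
    (Nat.card (S : Subgroup G) = 4 * Nat.card ↥((S : Subgroup G) ⊓ (T : Subgroup G)) ∨
      ((∀ s ∈ (S : Subgroup G), s * s ∈ (T : Subgroup G) → CentralIn S s) ∨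
        ⁅(S : Subgroup G), (S : Subgroup G)⁆ ≤ (T : Subgroup G) →
        ∀ x ∈ ⁅(S : Subgroup G), (S : Subgroup G)⁆, x ∈ (T : Subgroup G) → x = 1)) := by
  have : Fact (Nat.Prime 2) := ⟨Nat.prime_two⟩
  obtain ⟨w, hwJ, hw⟩ := SetLike.not_le_iff_exists.1 hJ
  obtain ⟨J, hJdef⟩ : ∃ J, J = (S : Subgroup G) ⊓ (T : Subgroup G) := ⟨_, rfl⟩
  rw [← hJdef] at hwJ ⊢
  have hJS : J ≤ (S : Subgroup G) := hJdef ▸ inf_le_left
  have hJT : J ≤ (T : Subgroup G) := hJdef ▸ inf_le_right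
  have hmemJ : ∀ {x}, x ∈ (S : Subgroup G) → x ∈ (T : Subgroup G) → x ∈ J := fun h1 h2 =>
    hJdef ▸ ⟨h1, h2⟩
  set C : Subgroup G :=
    ⨆ R : {R : Sylow 2 G // J ≤ (R : Subgroup G)}, ((R : Sylow 2 G) : Subgroup G) with hC
  have hRC : ∀ R : Sylow 2 G, J ≤ (R : Subgroup G) → (R : Subgroup G) ≤ C := fun R h =>
    le_iSup (fun R : {R : Sylow 2 G // J ≤ (R : Subgroup G)} => ((R : Sylow 2 G) : Subgroup G)) ⟨R, h⟩
  have hJc : ∀ c ∈ C, ∀ j ∈ J, c * j = j * c := by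
    have h : C ≤ centralizer (J : Set G) := iSup_le fun R c hc => mem_centralizer_iff.2 fun j hj => by
      obtain ⟨R', hR'⟩ : ∃ R' : Sylow 2 G, (R : Sylow 2 G) ≠ R' ∧ j ∈ (R' : Subgroup G) := by
        by_cases h : (R : Sylow 2 G) = S
        · exact ⟨T, h ▸ hne, hJT hj⟩
        · exact ⟨S, h, hJS hj⟩
      exact (central hCI hR'.1 (R.2 hj) hR'.2 c hc).symm
    exact fun c hc j hj => (mem_centralizer_iff.1 (h hc) j hj).symm
  have hSC := hRC S hJS
  have hTC := hRC T hJT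
  have hgen : Gen C := gen_iSup (fun R : Sylow 2 G => J ≤ (R : Subgroup G))
  -- Sylow subgroups of `C` contain `J`
  have hlift : ∀ U : Sylow 2 C, ∃ (R : Sylow 2 G) (hR : (R : Subgroup G) ≤ C),
      J ≤ (R : Subgroup G) ∧ R.subtype hR = U := by
    intro U
    obtain ⟨c, hc⟩ := MulAction.exists_smul_eq C (S.subtype hSC) U
    rw [Sylow.smul_subtype] at hc
    refine ⟨_, _, fun j hj => ?_, hc⟩
    show j ∈ (((c : G) • S : Sylow 2 G) : Subgroup G)
    rw [mem_smul_iff, mul_assoc, ← hJc c c.2 j hj, inv_mul_cancel_left]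
    exact hJS hj
  let J' : Subgroup C := J.subgroupOf C
  let Z : Subgroup C := J' ⊔ Cfsg.oddCore C
  have hJ' : J' ≤ center C := fun j hj => mem_center_iff.2 fun c => Subtype.ext (hJc c c.2 j hj)
  have hoc : Cfsg.oddCore C ≤ center C := by
    intro o ho
    have h : (⊤ : Subgroup C) ≤ centralizer ({o} : Set C) := by
      conv_lhs => rw [← hgen]
      refine iSup_le fun U => ?_
      obtain ⟨R, hR', -, rfl⟩ := hlift U
      exact fun r hr => mem_centralizer_singleton_iff.2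
        (Subtype.ext (commute_oddCore hCI hna hO hR' hr ⟨o, ho, rfl⟩))
    exact mem_center_iff.2 fun g => mem_centralizer_singleton_iff.1 (h (Subgroup.mem_top g))
  have hZ : Z ≤ center C := sup_le hJ' hoc
  haveI hZn : Z.Normal := ⟨fun z hz c => by rwa [mem_center_iff.1 (hZ hz) c, mul_inv_cancel_right]⟩
  haveI : J'.Normal := ⟨fun z hz c => by rwa [mem_center_iff.1 (hJ' hz) c, mul_inv_cancel_right]⟩
  have hJZ : ∀ {j : G} (hj : j ∈ C), j ∈ J → (⟨j, hj⟩ : C) ∈ Z := fun _ h => Subgroup.mem_sup_left h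
  -- elements of a Sylow subgroup modulo `Z`
  have hback : ∀ (R : Sylow 2 G) (hR' : (R : Subgroup G) ≤ C), J ≤ (R : Subgroup G) → ∀ (y : C) (k : ℕ),
      (y : G) ^ 2 ^ k = 1 → (∃ r : C, (r : G) ∈ (R : Subgroup G) ∧ r⁻¹ * y ∈ Z) →
      (y : G) ∈ (R : Subgroup G) := by
    rintro R hR' hJR y k hk ⟨r, hr, hry⟩
    obtain ⟨j, hj, o, ho, hjo⟩ := Subgroup.mem_sup_of_normal_left.1 hry
    refine mem_of_eq_mul hCI hna hO hR' (r := ((r * j : C) : G)) (o := (o : G))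
      (mul_mem hr (hJR hj)) ⟨o, ho, rfl⟩ ?_ hk
    rw [← Subgroup.coe_mul, mul_assoc, hjo, mul_inv_cancel_left]
  have hSZ : ∀ (x : C), (x : G) ∈ (S : Subgroup G) → (x ∈ Z ↔ (x : G) ∈ J) := by
    intro x hx
    refine ⟨fun h => ?_, fun h => Subgroup.mem_sup_left h⟩
    obtain ⟨k, hk⟩ := mem_two_pow hx
    obtain ⟨j, hj, o, ho, hjo⟩ := Subgroup.mem_sup_of_normal_left.1 h
    have hjo' : (x : G) = (j : G) * (o : G) := by rw [← hjo]; rfl
    have h1 : (o : G) = 1 := eq_one_of_commute (odd_map_oddCore C) (S.2.to_le hJS) hj ⟨o, ho, rfl⟩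
      (hJc o o.2 j hj).symm (hjo' ▸ hk)
    rw [hjo', h1, mul_one]; exact hj
  let π := QuotientGroup.mk' Z
  have hsame : ∀ (R R' : Sylow 2 G) (hR1 : (R : Subgroup G) ≤ C) (hR2 : (R' : Subgroup G) ≤ C),
      J ≤ (R' : Subgroup G) → ∀ (r : C), (r : G) ∈ (R : Subgroup G) →
      π r ∈ ((R'.subtype hR2).mapSurjective (QuotientGroup.mk'_surjective Z) : Subgroup (C ⧸ Z)) →
      (r : G) ∈ (R' : Subgroup G) := by
    intro R R' hR1 hR2 hJR' r hr hr'
    obtain ⟨r', hr', e⟩ := hr'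
    obtain ⟨k, hk⟩ := mem_two_pow hr
    exact hback R' hR2 hJR' r k hk ⟨r', hr', QuotientGroup.eq.1 e⟩
  have hti : TI (C ⧸ Z) := by
    intro U V hUV
    obtain ⟨U', rfl⟩ := Sylow.mapSurjective_surjective (QuotientGroup.mk'_surjective Z) 2 U
    obtain ⟨V', rfl⟩ := Sylow.mapSurjective_surjective (QuotientGroup.mk'_surjective Z) 2 V
    obtain ⟨R, hR1, hJR, rfl⟩ := hlift U'
    obtain ⟨R', hR2, hJR', rfl⟩ := hlift V'
    have hne' : R ≠ R' := fun e => hUV (by subst e; rfl)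
    refine eq_bot_iff.2 fun y hy => ?_
    obtain ⟨⟨r, hr, rfl⟩, hy'⟩ := hy
    have hr' : (r : G) ∈ (R' : Subgroup G) := hsame R R' hR1 hR2 hJR' r hr hy'
    refine Subgroup.mem_bot.2 ((QuotientGroup.eq_one_iff r).2 (Subgroup.mem_sup_left ?_))
    show (r : G) ∈ J
    rw [hJdef, piece_eq hCI hna hO ih hne hne' (hJdef ▸ hwJ) ⟨hJR hwJ, hJR' hwJ⟩ hw]
    exact ⟨hr, hr'⟩
  let Sb : Sylow 2 (C ⧸ Z) := (S.subtype hSC).mapSurjective (QuotientGroup.mk'_surjective Z)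
  let Tb : Sylow 2 (C ⧸ Z) := (T.subtype hTC).mapSurjective (QuotientGroup.mk'_surjective Z)
  have hneb : Sb ≠ Tb := fun e => hne (Sylow.ext ((S.3 T.2 fun s hs => by
    have hs' : π ⟨s, hSC hs⟩ ∈ (Sb : Subgroup (C ⧸ Z)) := ⟨⟨s, hSC hs⟩, hs, rfl⟩
    rw [e] at hs'
    exact hsame S T hSC hTC hJT ⟨s, hSC hs⟩ hs hs').symm))
  have hO' : Cfsg.oddCore (C ⧸ Z) = ⊥ := oddCore_quotient_eq_bot Z hZ le_sup_right
  have hO2 : Cfsg.pCore 2 (C ⧸ Z) = ⊥ := le_bot_iff.1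
    ((le_inf (CfsgLib.PCore.pCore_le_sylow Sb) (CfsgLib.PCore.pCore_le_sylow Tb)).trans (hti Sb Tb hneb).le)
  obtain ⟨-, hB, hnc, -⟩ := simple_of_stronglyEmbedded hR hO' hO2 (gen_quotient hgen Z)
    (stronglyEmbedded_of_ti hti hneb)
  refine ⟨fun a ha b hb haT hbT ha2 hb2 => ?_, ?_⟩
  · have hord : ∀ x (hx : x ∈ (S : Subgroup G)), x ∉ (T : Subgroup G) → x * x ∈ (T : Subgroup G) →
        orderOf (π ⟨x, hSC hx⟩) = 2 := fun x hx hxT hx2 => by
      refine orderOf_eq_prime ?_ fun h => hxT (hJT ((hSZ _ hx).1 ((QuotientGroup.eq_one_iff _).1 h)))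
      rw [sq, ← map_mul]
      exact (QuotientGroup.eq_one_iff _).2 (hJZ _ (hmemJ (mul_mem hx hx) hx2))
    obtain ⟨nb, hnb, hab⟩ := exists_conj_of_ti hti hneb (S := Sb) ⟨⟨a, hSC ha⟩, ha, rfl⟩
      ⟨⟨b, hSC hb⟩, hb, rfl⟩ (hord a ha haT ha2) (hord b hb hbT hb2)
    obtain ⟨n, rfl⟩ := QuotientGroup.mk'_surjective Z nb
    have hJn : J ≤ (((n : G) • S : Sylow 2 G) : Subgroup G) := fun j hj => by
      rw [mem_smul_iff, mul_assoc, ← hJc n n.2 j hj, inv_mul_cancel_left]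
      exact hJS hj
    have hnS : (n : G) • S = S := Sylow.ext <| by
      refine ((((n : G) • S : Sylow 2 G)).3 S.2 fun s hs => ?_).symm
      refine hsame ((n : G) • S) S (hRC _ hJn) hSC hJS ⟨s, hRC _ hJn hs⟩ hs ?_
      rw [mem_smul_iff] at hs
      have hs' : π ⟨(n : G)⁻¹ * s * n, hSC hs⟩ ∈ (Sb : Subgroup (C ⧸ Z)) := ⟨_, hs, rfl⟩
      convert (mem_normalizer_iff.1 hnb _).1 hs' using 1
      rw [← map_inv π, ← map_mul π, ← map_mul π]
      exact congrArg π (Subtype.ext (by simp [mul_assoc]))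
    have hnN := Sylow.smul_eq_iff_mem_normalizer.1 hnS
    have hna' : (n : G) * a * (n : G)⁻¹ ∈ (S : Subgroup G) := (mem_normalizer_iff.1 hnN a).1 ha
    refine ⟨n, hnN, hJc n n.2, ?_⟩
    refine (hSZ ⟨_, hSC (mul_mem (inv_mem hb) hna')⟩ (mul_mem (inv_mem hb) hna')).1
      ((QuotientGroup.eq_one_iff _).1 ?_)
    show π ((⟨b, hSC hb⟩ : C)⁻¹ * (n * ⟨a, hSC ha⟩ * n⁻¹)) = 1
    rw [map_mul, map_inv, map_mul, map_mul, map_inv, hab, inv_mul_cancel]
  · rcases cover_dichotomy hZ hB hnc (S.subtype hSC) with h4 | h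
    · left
      let f : (S : Subgroup G) →* C ⧸ Z := π.comp (Subgroup.inclusion hSC)
      have h1 := Subgroup.card_eq_card_quotient_mul_card_subgroup f.ker
      have hr : f.range = ((S.subtype hSC : Sylow 2 C) : Subgroup C).map π := by
        ext y
        constructor
        · rintro ⟨s, rfl⟩; exact ⟨_, s.2, rfl⟩
        · rintro ⟨s, hs, rfl⟩; exact ⟨⟨s, hs⟩, rfl⟩
      have hk : f.ker = J.subgroupOf (S : Subgroup G) := by
        ext s
        exact (QuotientGroup.eq_one_iff _).trans (hSZ (Subgroup.inclusion hSC s) s.2)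
      rw [Nat.card_congr (QuotientGroup.quotientKerEquivRange f).toEquiv, hr, hk,
        Nat.card_congr (Subgroup.subgroupOfEquivOfLe hJS).toEquiv, h4] at h1
      exact h1
    · right
      intro hyp x hx hxT
      have hmap : (⁅((S.subtype hSC : Sylow 2 C) : Subgroup C), ((S.subtype hSC : Sylow 2 C) : Subgroup C)⁆).map
          C.subtype = ⁅(S : Subgroup G), (S : Subgroup G)⁆ := by
        rw [Subgroup.map_commutator, Sylow.coe_subtype, Subgroup.map_subgroupOf_eq_of_le hSC]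
      rw [← hmap] at hx
      obtain ⟨y, hy, rfl⟩ := hx
      have hyS : (y : G) ∈ (S : Subgroup G) :=
        Subgroup.commutator_le_self ((S.subtype hSC : Sylow 2 C) : Subgroup C) hy
      refine congrArg Subtype.val (h ?_ y hy ((hSZ y hyS).2 (hmemJ hyS hxT)))
      refine hyp.imp (fun hl s hs hs2 v hv => Subtype.ext
        (hl s hs (hJT ((hSZ (s * s) (mul_mem hs hs)).1 hs2)) v hv)) (fun hl v hv => ?_)
      have hvS : (v : G) ∈ (S : Subgroup G) :=
        Subgroup.commutator_le_self ((S.subtype hSC : Sylow 2 C) : Subgroup C) hv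
      exact (hSZ v hvS).2 (hmemJ hvS (hl (hmap ▸ ⟨v, hv, rfl⟩)))

end CfsgLib.CentralSylow
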