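import Cfsg.Agent.Lib.CentralSylow.Basic
import Cfsg.Agent.Lib.BenderQ.Classify
import Cfsg.Agent.Lib.BenderQ.Bender
import Cfsg.Agent.Lib.StrongEmbedding.Swap
import Cfsg.Agent.Lib.PCore.Basic
import Cfsg.Prelude.Def_CaseTheorems

/-!
Groups generated by their Sylow 2-subgroups: a strongly embedded subgroup and no core give a simple group
of Bender type; trivial intersections give a strongly embedded Sylow normaliser.
-/

set_option autoImplicit false
set_option linter.unusedSectionVars false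
set_option linter.style.haveILetI false

namespace CfsgLib.CentralSylow

open Subgroup CfsgLib.BenderQ

universe u

/-- Generated by the Sylow 2-subgroups. -/
def Gen (G : Type u) [Group G] : Prop := (⨆ S : Sylow 2 G, (S : Subgroup G)) = ⊤

/-- The intersections of distinct Sylow 2-subgroups are trivial. -/
def TI (G : Type u) [Group G] : Prop :=
  ∀ S T : Sylow 2 G, S ≠ T → (S : Subgroup G) ⊓ (T : Subgroup G) = ⊥

variable {G : Type u} [Group G] [Finite G]

theorem gen_quotient (hg : Gen G) (N : Subgroup G) [N.Normal] : Gen (G ⧸ N) := by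
  have : Fact (Nat.Prime 2) := ⟨Nat.prime_two⟩
  refine top_le_iff.1 ?_
  rw [← Subgroup.map_top_of_surjective _ (QuotientGroup.mk'_surjective N), ← hg, Subgroup.map_iSup]
  refine iSup_le fun S => ?_
  rw [← Sylow.coe_mapSurjective (QuotientGroup.mk'_surjective N) S]
  exact le_iSup (fun T : Sylow 2 (G ⧸ N) => (T : Subgroup (G ⧸ N))) _

theorem gen_equiv {H : Type u} [Group H] [Finite H] (e : G ≃* H) (hg : Gen G) : Gen H := by
  have : Fact (Nat.Prime 2) := ⟨Nat.prime_two⟩
  refine top_le_iff.1 ?_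
  rw [← Subgroup.map_top_of_surjective e.toMonoidHom e.surjective, ← hg, Subgroup.map_iSup]
  refine iSup_le fun S => ?_
  rw [← Sylow.coe_mapSurjective (f := e.toMonoidHom) e.surjective S]
  exact le_iSup (fun T : Sylow 2 H => (T : Subgroup H)) _

theorem pElementClosure_eq_top (hg : Gen G) : Cfsg.pElementClosure 2 (⊤ : Subgroup G) = ⊤ := by
  refine top_le_iff.1 ?_
  conv_lhs => rw [← hg]
  refine iSup_le fun S x hx => Subgroup.subset_closure ⟨Subgroup.mem_top x, ?_⟩
  obtain ⟨k, hk⟩ := IsPGroup.iff_orderOf.1 S.2 ⟨x, hx⟩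
  exact ⟨k, by rwa [Subgroup.orderOf_mk] at hk⟩

/-- A group generated by Sylow 2-subgroups with no core and a strongly embedded subgroup is a simple
group of Bender type and the subgroup is a Sylow normaliser. -/
theorem simple_of_stronglyEmbedded (hR : RankOneClass.{u}) (hO : Cfsg.oddCore G = ⊥)
    (hO2 : Cfsg.pCore 2 G = ⊥) (hg : Gen G) {H : Subgroup G} (hH : Cfsg.IsStronglyEmbedded H) :
    IsSimpleGroup G ∧ IsBenderType G ∧ (∃ a b : G, a * b ≠ b * a) ∧
      ∃ S : Sylow 2 G, H = normalizer ((S : Subgroup G) : Set G) := by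
  have : Fact (Nat.Prime 2) := ⟨Nat.prime_two⟩
  rcases classification benderKernel hR hH with h | h
  · exfalso
    obtain ⟨t, -, ht⟩ := CfsgLib.Involutions.exists_involution_of_even_card H hH.2.1
    have h1 := (h t ht).1
    rw [show Cfsg.pPrimeCore 2 G = ⊥ from hO, bot_sup_eq] at h1
    have hc : t ∈ Subgroup.center G := mem_center_iff.2 fun g =>
      mem_centralizer_singleton_iff.1 (h1 ▸ Subgroup.mem_top g)
    haveI : (zpowers t).Normal := ⟨fun x hx g => by
      have hxc : x ∈ Subgroup.center G := Subgroup.zpowers_le.2 hc hx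
      rwa [mem_center_iff.1 hxc g, mul_inv_cancel_right]⟩
    have h2 : zpowers t ≤ Cfsg.pCore 2 G := CfsgLib.PCore.le_pCore inferInstance
      (IsPGroup.of_card (n := 1) (by rw [Nat.card_zpowers, ht, pow_one]))
    rw [hO2, le_bot_iff, zpowers_eq_bot] at h2
    rw [h2, orderOf_one] at ht
    exact absurd ht (by norm_num)
  · let e : G ⧸ Cfsg.pPrimeCore 2 G ≃* G :=
      (QuotientGroup.quotientMulEquivOfEq (show Cfsg.pPrimeCore 2 G = ⊥ from hO)).trans QuotientGroup.quotientBot
    have htop := pElementClosure_eq_top (gen_equiv e.symm hg)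
    let e' : G ≃* ↥(Cfsg.pElementClosure 2 (⊤ : Subgroup (G ⧸ Cfsg.pPrimeCore 2 G))) :=
      e.symm.trans (Subgroup.topEquiv.symm.trans (MulEquiv.subgroupCongr htop.symm))
    have hB : IsBenderType G := IsBenderType.of_equiv e' h
    have hs : IsSimpleGroup G := hB.isSimple
    have hna : ∃ a b : G, a * b ≠ b * a := by
      by_contra hc
      push Not at hc
      obtain ⟨t, -, ht⟩ := CfsgLib.Involutions.exists_involution_of_even_card H hH.2.1
      haveI : (zpowers t).Normal := ⟨fun x hx g => by rwa [hc g x, mul_inv_cancel_right]⟩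
      rcases hs.eq_bot_or_eq_top_of_normal (zpowers t) inferInstance with h2 | h2
      · rw [zpowers_eq_bot.1 h2, orderOf_one] at ht
        exact absurd ht (by norm_num)
      · refine hH.1 (eq_top_iff.2 fun g _ => ?_)
        obtain ⟨u, huH, hu⟩ := CfsgLib.Involutions.exists_involution_of_even_card H hH.2.1
        have h3 : zpowers u = ⊤ := (hs.eq_bot_or_eq_top_of_normal (zpowers u)
          ⟨fun x hx g => by rwa [hc g x, mul_inv_cancel_right]⟩).resolve_left fun e => by
            rw [zpowers_eq_bot.1 e, orderOf_one] at hu; exact absurd hu (by norm_num)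
        exact Subgroup.zpowers_le.2 huH (h3 ▸ Subgroup.mem_top g)
    haveI := hs
    exact ⟨hs, hB, hna, exists_sylow_normalizer benderKernel hna hH⟩

theorem ne_bot_of_ne {S T : Sylow 2 G} (hne : S ≠ T) : (S : Subgroup G) ≠ ⊥ := fun e => by
  have : Fact (Nat.Prime 2) := ⟨Nat.prime_two⟩
  obtain ⟨g, hg⟩ := MulAction.exists_smul_eq G S T
  refine hne (Sylow.ext ?_)
  rw [← hg, Sylow.coe_subgroup_smul, e, Subgroup.smul_bot]

theorem mem_normalizer_of_ti (hti : TI G) {S : Sylow 2 G} {x g : G} (hx : x ∈ (S : Subgroup G))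
    (hx1 : x ≠ 1) (hg : g * x * g⁻¹ ∈ (S : Subgroup G)) : g ∈ normalizer ((S : Subgroup G) : Set G) := by
  by_contra hn
  have hne : (g⁻¹ • S : Sylow 2 G) ≠ S := fun e => hn (inv_mem_iff.1 (Sylow.smul_eq_iff_mem_normalizer.1 e))
  have h1 : x ∈ ((g⁻¹ • S : Sylow 2 G) : Subgroup G) := by rw [mem_smul_iff, inv_inv]; exact hg
  have h2 : x ∈ ((g⁻¹ • S : Sylow 2 G) : Subgroup G) ⊓ (S : Subgroup G) := ⟨h1, hx⟩
  rw [hti _ _ hne, Subgroup.mem_bot] at h2
  exact hx1 h2

/-- Trivial intersections give a strongly embedded Sylow normaliser. -/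
theorem stronglyEmbedded_of_ti (hti : TI G) {S T : Sylow 2 G} (hne : S ≠ T) :
    Cfsg.IsStronglyEmbedded (normalizer ((S : Subgroup G) : Set G)) := by
  have : Fact (Nat.Prime 2) := ⟨Nat.prime_two⟩
  set N := normalizer ((S : Subgroup G) : Set G) with hN
  have huniq : ∀ u ∈ N, orderOf u = 2 → u ∈ (S : Subgroup G) := fun u hu hu2 => by
    have h1 : zpowers u ≤ N := zpowers_le.2 hu
    have h2 : IsPGroup 2 (zpowers u) := IsPGroup.of_card (n := 1) (by rw [Nat.card_zpowers, hu2, pow_one])
    have h3 := h2.inf_normalizer_sylow S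
    have h4 : zpowers u ⊓ (S : Subgroup G) = zpowers u := by
      rw [← h3]; exact inf_eq_left.2 h1
    exact (h4.symm ▸ mem_zpowers u : u ∈ zpowers u ⊓ (S : Subgroup G)).2
  refine ⟨fun e => ?_, ?_, fun g hg => ?_⟩
  · obtain ⟨g, hg⟩ := MulAction.exists_smul_eq G S T
    exact hne (hg ▸ (Sylow.smul_eq_iff_mem_normalizer.2 (e ▸ Subgroup.mem_top g : g ∈ N)).symm)
  · rw [even_iff_two_dvd]
    haveI := (Subgroup.nontrivial_iff_ne_bot _).2 (ne_bot_of_ne hne)
    obtain ⟨k, hk⟩ := IsPGroup.iff_card.1 S.2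
    have h1 : 1 < Nat.card (S : Subgroup G) := Finite.one_lt_card
    rw [hk] at h1
    have hk0 : k ≠ 0 := fun e => by rw [e] at h1; simp at h1
    have h2 : 2 ∣ Nat.card (S : Subgroup G) := by rw [hk]; exact dvd_pow_self 2 hk0
    exact h2.trans (Subgroup.card_dvd_of_le Subgroup.le_normalizer)
  · rw [← Nat.not_even_iff_odd, even_iff_two_dvd]
    intro hd
    obtain ⟨x, hx⟩ := exists_prime_orderOf_dvd_card' 2 hd
    rw [← Subgroup.orderOf_coe] at hx
    obtain ⟨w, hw, hwx⟩ := x.2.2
    have hwx' : g * w * g⁻¹ = x := hwx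
    have hw2 : orderOf w = 2 := by rw [← CfsgLib.Involutions.orderOf_conj_eq g w, hwx']; exact hx
    exact hg (mem_normalizer_of_ti hti (huniq w hw hw2)
      (fun e => by rw [e, orderOf_one] at hw2; exact absurd hw2 (by norm_num))
      (hwx' ▸ huniq _ x.2.1 hx))

/-- The Sylow normaliser is transitive on the involutions of the Sylow subgroup. -/
theorem exists_conj_of_ti (hti : TI G) {S T : Sylow 2 G} (hne : S ≠ T) {a b : G}
    (haS : a ∈ (S : Subgroup G)) (hbS : b ∈ (S : Subgroup G)) (ha : orderOf a = 2) (hb : orderOf b = 2) :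
    ∃ n ∈ normalizer ((S : Subgroup G) : Set G), n * a * n⁻¹ = b := by
  obtain ⟨c, hc⟩ := isConj_iff.1 (StrongEmbedding.isConj_involutions (stronglyEmbedded_of_ti hti hne) ha hb)
  exact ⟨c, mem_normalizer_of_ti hti haS (fun e => by rw [e, orderOf_one] at ha; exact absurd ha (by norm_num))
    (hc ▸ hbS), hc⟩

end CfsgLib.CentralSylow
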