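import Cfsg.Agent.Lib.CentralSylow.OddInvariant
import Cfsg.Agent.Lib.CentralSylow.Simple

/-!
General reductions: cores of central quotients, Sylow subgroups of subgroups, odd cores of subgroups.
-/

set_option autoImplicit false
set_option linter.unusedSectionVars false
set_option linter.style.haveILetI false

namespace CfsgLib.CentralSylow

open Subgroup Pointwise

universe u

variable {G : Type u} [Group G] [Finite G]

theorem exists_sylow_mem {K : Subgroup G} {U : Sylow 2 G} (hU : (U : Subgroup G) ≤ K) {x : G} {k : ℕ}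
    (hx : x ^ 2 ^ k = 1) (hxK : x ∈ K) : ∃ R : Sylow 2 G, (R : Subgroup G) ≤ K ∧ x ∈ (R : Subgroup G) := by
  have h : IsPGroup 2 (zpowers x) := fun w => by
    obtain ⟨w, i, rfl⟩ := w
    exact ⟨k, Subtype.ext (by
      show (x ^ i) ^ 2 ^ k = 1
      rw [← zpow_natCast, ← zpow_mul, mul_comm, zpow_mul, zpow_natCast, hx, one_zpow])⟩
  obtain ⟨R, h1, h2⟩ := exists_sylow_le_of hU h (zpowers_le.2 hxK)
  exact ⟨R, h1, h2 (mem_zpowers x)⟩

/-- A 2-element that is a product of an element of a 2-group and a commuting element of odd order lies in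
the 2-group. -/
theorem eq_one_of_commute {O P : Subgroup G} (hO : Odd (Nat.card O)) (hP : IsPGroup 2 P) {r o : G} {k : ℕ}
    (hr : r ∈ P) (ho : o ∈ O) (hc : r * o = o * r) (hx : (r * o) ^ 2 ^ k = 1) : o = 1 := by
  obtain ⟨m, hm⟩ := hP ⟨r, hr⟩
  have hm' : r ^ 2 ^ m = 1 := congrArg Subtype.val hm
  have h1 : (r * o) ^ 2 ^ (k + m) = 1 := by rw [pow_add, pow_mul, hx, one_pow]
  rw [(show Commute r o from hc).mul_pow, show r ^ 2 ^ (k + m) = 1 by
    rw [pow_add, mul_comm, pow_mul, hm', one_pow], one_mul] at h1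
  have h2 : o ^ Nat.card O = 1 := congrArg Subtype.val (pow_card_eq_one' (x := (⟨o, ho⟩ : O)))
  have h3 := pow_gcd_eq_one.2 ⟨h1, h2⟩
  rwa [Nat.Coprime.pow_left _ (Nat.coprime_two_left.2 hO), pow_one] at h3

theorem odd_map_oddCore (K : Subgroup G) : Odd (Nat.card ((Cfsg.oddCore K).map K.subtype)) :=
  Odd.of_dvd_nat (Nat.coprime_two_right.1 (CfsgLib.PCore.pPrimeCore_coprime (p := 2) (G := K)))
    (Subgroup.card_map_dvd _ _)

theorem mem_two_pow {R : Sylow 2 G} {x : G} (hx : x ∈ (R : Subgroup G)) : ∃ k : ℕ, x ^ 2 ^ k = 1 := by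
  obtain ⟨k, hk⟩ := R.2 ⟨x, hx⟩
  exact ⟨k, congrArg Subtype.val hk⟩

/-- A central quotient with the odd core in the kernel has no odd core. -/
theorem oddCore_quotient_eq_bot (Z : Subgroup G) [Z.Normal] (hZ : Z ≤ center G)
    (hO : Cfsg.oddCore G ≤ Z) : Cfsg.oddCore (G ⧸ Z) = ⊥ := by
  have : Fact (Nat.Prime 2) := ⟨Nat.prime_two⟩
  let π := QuotientGroup.mk' Z
  set P : Subgroup G := (Cfsg.oddCore (G ⧸ Z)).comap π with hP
  haveI : (Cfsg.oddCore (G ⧸ Z)).Normal := Cfsg.pPrimeCore_normal 2 _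
  haveI hPn : P.Normal := Subgroup.Normal.comap inferInstance _
  obtain ⟨T⟩ : Nonempty (Sylow 2 P) := inferInstance
  -- a Sylow 2-subgroup of the preimage is central
  have hTZ : ∀ t ∈ (T : Subgroup P), (t : G) ∈ Z := fun t ht => by
    obtain ⟨k, hk⟩ := T.2 ⟨t, ht⟩
    have hk' : π (t : G) ^ 2 ^ k = 1 := by
      rw [← map_pow, show (t : G) ^ 2 ^ k = 1 from congrArg (fun v : T => ((v : P) : G)) hk, map_one]
    have h2 : π (t : G) ^ Nat.card (Cfsg.oddCore (G ⧸ Z)) = 1 :=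
      congrArg Subtype.val (pow_card_eq_one' (x := (⟨π (t : G), t.2⟩ : Cfsg.oddCore (G ⧸ Z))))
    have h3 := pow_gcd_eq_one.2 ⟨hk', h2⟩
    rw [Nat.Coprime.pow_left _ (CfsgLib.PCore.pPrimeCore_coprime (p := 2) (G := G ⧸ Z)).symm, pow_one] at h3
    exact (QuotientGroup.eq_one_iff _).1 h3
  have hTc : ∀ t ∈ (T : Subgroup P), t ∈ center P := fun t ht =>
    mem_center_iff.2 fun g => Subtype.ext (mem_center_iff.1 (hZ (hTZ t ht)) g)
  haveI : (T : Subgroup P).Normal := ⟨fun t ht g => by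
    rwa [mem_center_iff.1 (hTc t ht) g, mul_inv_cancel_right]⟩
  have hcop : Nat.Coprime (Nat.card (T : Subgroup P)) (T : Subgroup P).index := by
    obtain ⟨n, hn⟩ := IsPGroup.iff_card.1 T.2
    rw [hn]
    exact Nat.Coprime.pow_left n (Nat.prime_two.coprime_iff_not_dvd.2 T.not_dvd_index)
  obtain ⟨Q, hQ⟩ := Subgroup.exists_right_complement'_of_coprime hcop
  haveI hQn : Q.Normal := by
    refine ⟨fun q hq g => ?_⟩
    obtain ⟨⟨⟨t, ht⟩, ⟨q', hq'⟩⟩, rfl⟩ := hQ.2 g
    show t * q' * q * (t * q')⁻¹ ∈ Q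
    have h : t * (q' * q * q'⁻¹) = q' * q * q'⁻¹ * t := (mem_center_iff.1 (hTc t ht) _).symm
    rw [show t * q' * q * (t * q')⁻¹ = t * (q' * q * q'⁻¹) * t⁻¹ by group, h, mul_inv_cancel_right]
    exact mul_mem (mul_mem hq' hq) (inv_mem hq')
  have hQodd : (Nat.card Q).Coprime 2 := by
    rw [← hQ.symm.index_eq_card]
    exact (Nat.prime_two.coprime_iff_not_dvd.2 T.not_dvd_index).symm
  have hQle : Q.map P.subtype ≤ Z := by
    refine le_trans ?_ hO
    refine le_trans (Subgroup.map_mono (CfsgLib.PCore.le_pPrimeCore hQn hQodd)) ?_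
    rw [CfsgLib.PCore.map_pPrimeCore_subtype_of_normal]
    exact inf_le_right
  rw [← Subgroup.map_comap_eq_self_of_surjective (QuotientGroup.mk'_surjective Z) (Cfsg.oddCore (G ⧸ Z)),
    Subgroup.map_eq_bot_iff, QuotientGroup.ker_mk']
  intro x hx
  obtain ⟨⟨⟨t, ht⟩, ⟨q, hq⟩⟩, he⟩ := hQ.2 (⟨x, hx⟩ : P)
  have hx' : (t : G) * (q : G) = x := congrArg Subtype.val he
  rw [← hx']
  exact mul_mem (hTZ t ht) (hQle ⟨q, hq, rfl⟩)

/-- Every Sylow subgroup of an overgroup of a Sylow subgroup is one of the group. -/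
theorem exists_subtype_eq {K : Subgroup G} {U : Sylow 2 G} (hU : (U : Subgroup G) ≤ K) (S : Sylow 2 K) :
    ∃ (R : Sylow 2 G) (hR : (R : Subgroup G) ≤ K), R.subtype hR = S := by
  have : Fact (Nat.Prime 2) := ⟨Nat.prime_two⟩
  obtain ⟨k, hk⟩ := MulAction.exists_smul_eq K (U.subtype hU) S
  rw [Sylow.smul_subtype] at hk
  exact ⟨_, _, hk⟩

theorem na_subgroup (hna : NonAb G) {K : Subgroup G} {U : Sylow 2 G} (hU : (U : Subgroup G) ≤ K) :
    NonAb K := fun S => by
  obtain ⟨R, hR, rfl⟩ := exists_subtype_eq hU S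
  obtain ⟨a, ha, b, hb, hab⟩ := hna R
  exact ⟨⟨a, hR ha⟩, ha, ⟨b, hR hb⟩, hb, fun h => hab (congrArg Subtype.val h)⟩

/-- The subgroup generated by some Sylow subgroups is generated by its Sylow subgroups. -/
theorem gen_iSup (p : Sylow 2 G → Prop) :
    Gen ↥(⨆ R : {R : Sylow 2 G // p R}, ((R : Sylow 2 G) : Subgroup G)) := by
  set K : Subgroup G := ⨆ R : {R : Sylow 2 G // p R}, ((R : Sylow 2 G) : Subgroup G)
  refine Subgroup.map_injective K.subtype_injective ?_
  rw [← MonoidHom.range_eq_map, Subgroup.range_subtype, Subgroup.map_iSup]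
  refine le_antisymm (iSup_le fun S => Subgroup.map_subtype_le _) (iSup_le fun R x hx => ?_)
  have hR : ((R : Sylow 2 G) : Subgroup G) ≤ K :=
    le_iSup (fun R : {R : Sylow 2 G // p R} => ((R : Sylow 2 G) : Subgroup G)) R
  exact le_iSup (fun S : Sylow 2 K => (S : Subgroup K).map K.subtype) ((R : Sylow 2 G).subtype hR)
    ⟨⟨x, hR hx⟩, hx, rfl⟩

theorem centralIn_conj {S : Sylow 2 G} {x g : G} (hg : g ∈ normalizer ((S : Subgroup G) : Set G))
    (hx : CentralIn S x) : CentralIn S (g * x * g⁻¹) := fun s hs => by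
  have h1 : g⁻¹ * s * g ∈ (S : Subgroup G) := (mem_normalizer_iff''.1 hg s).1 hs
  calc s * (g * x * g⁻¹) = g * (g⁻¹ * s * g * x) * g⁻¹ := by group
    _ = g * (x * (g⁻¹ * s * g)) * g⁻¹ := by rw [hx _ h1]
    _ = g * x * g⁻¹ * s := by group

theorem centralIn_mul {S : Sylow 2 G} {x y : G} (hx : CentralIn S x) (hy : CentralIn S y) :
    CentralIn S (x * y) := fun s hs => by
  rw [← mul_assoc, hx s hs, mul_assoc, hy s hs, mul_assoc]

variable (hCI : CI G)
include hCI

/-- The odd core of a subgroup is centralised by the Sylow subgroups of the group inside it. -/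
theorem commute_oddCore (hna : NonAb G) (hO : Cfsg.oddCore G = ⊥) {K : Subgroup G} {R : Sylow 2 G}
    (hR : (R : Subgroup G) ≤ K) {r o : G} (hr : r ∈ (R : Subgroup G))
    (ho : o ∈ (Cfsg.oddCore K).map K.subtype) : r * o = o * r := by
  refine (mem_centralizer_iff.1 (centralizes_odd hCI hna hO _ (odd_map_oddCore K) ?_ hr) o ho).symm
  refine hR.trans (Subgroup.le_normalizer_iff.2 fun g hg w hw => ?_)
  obtain ⟨⟨v, hv'⟩, hv, rfl⟩ := hw
  exact ⟨⟨g, hg⟩ * ⟨v, hv'⟩ * ⟨g, hg⟩⁻¹, (Cfsg.pPrimeCore_normal 2 K).conj_mem _ hv _, rfl⟩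

/-- A 2-element congruent to an element of a Sylow subgroup modulo the odd core lies in it. -/
theorem mem_of_eq_mul (hna : NonAb G) (hO : Cfsg.oddCore G = ⊥) {K : Subgroup G} {R : Sylow 2 G}
    (hR : (R : Subgroup G) ≤ K) {r o x : G} (hr : r ∈ (R : Subgroup G))
    (ho : o ∈ (Cfsg.oddCore K).map K.subtype) (hx : x = r * o) {k : ℕ} (hxk : x ^ 2 ^ k = 1) :
    x ∈ (R : Subgroup G) := by
  rw [hx, eq_one_of_commute (odd_map_oddCore K) R.2 hr ho (commute_oddCore hCI hna hO hR hr ho)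
    (hx ▸ hxk), mul_one]
  exact hr

/-- The 2-core is central in a group generated by at least two Sylow subgroups. -/
theorem pCore_le_center (hg : Gen G) {S T : Sylow 2 G} (hne : S ≠ T) : Cfsg.pCore 2 G ≤ center G := by
  have : Fact (Nat.Prime 2) := ⟨Nat.prime_two⟩
  intro x hx
  have h : (⊤ : Subgroup G) ≤ centralizer ({x} : Set G) := by
    conv_lhs => rw [← hg]
    refine iSup_le fun R r hr => ?_
    obtain ⟨R', hR'⟩ : ∃ R' : Sylow 2 G, R ≠ R' := by
      by_cases h : R = S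
      · exact ⟨T, h ▸ hne⟩
      · exact ⟨S, h⟩
    exact mem_centralizer_singleton_iff.2
      (central hCI hR' (CfsgLib.PCore.pCore_le_sylow R hx) (CfsgLib.PCore.pCore_le_sylow R' hx) r hr)
  exact mem_center_iff.2 fun g => mem_centralizer_singleton_iff.1 (h (Subgroup.mem_top g))

end CfsgLib.CentralSylow
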